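import Cfsg.Agent.Lib.SU.Borel
import Cfsg.Agent.Lib.Classical.PSUSimple
import Cfsg.Agent.Lib.Perm.Trans.UnitSU

/-!
A criterion for a subgroup of `SU_3(q)` to be everything: it contains a regular unipotent of a Borel group, an
element of that Borel group whose action on the root group generates the field, and leaves the Borel group.
-/

set_option autoImplicit false

namespace CfsgLib.RegUnip.SU

open Matrix CfsgLib.SU

variable {F : Type*} [Field F] {q : ℕ}

/-- a frame of a three dimensional hermitian space -/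
structure Frame (C : UCtx F q) where
  P : UPair C 3
  a : Fin 3 → F
  mem : a ∈ P.perp
  aa : C.form a a = 1
  span : ∀ w ∈ P.perp, w = C.form w a • a

variable {C : UCtx F q}

theorem exists_frame [Finite F] (C : UCtx F q) : Nonempty (Frame C) := by
  obtain ⟨P⟩ := C.exists_pair (n := 3) (by norm_num)
  obtain ⟨u, hu, huu, hsp⟩ := P.exists_basis
  haveI : Unique (Fin (3 - 2)) := inferInstanceAs (Unique (Fin 1))
  exact ⟨⟨P, u default, hu _, by rw [huu, if_pos rfl],
    fun w hw => (hsp w hw).trans (Fintype.sum_subsingleton (fun i => C.form w (u i) • u i) default)⟩⟩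

variable (B : Frame C)

/-- a vector from its coordinates -/
def Frame.cv (x y z : F) : Fin 3 → F := x • B.P.e + y • B.a + z • B.P.f

theorem Frame.cv_e : B.cv 1 0 0 = B.P.e := by simp [Frame.cv]

theorem Frame.cv_a : B.cv 0 1 0 = B.a := by simp [Frame.cv]

theorem Frame.cv_f : B.cv 0 0 1 = B.P.f := by simp [Frame.cv]

theorem Frame.decomp (x : Fin 3 → F) : x = B.cv (C.form x B.P.f) (C.form x B.a) (C.form x B.P.e) := by
  conv_lhs => rw [B.P.decomp x, B.span _ (B.P.proj_mem x)]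
  rw [Frame.cv, UPair.proj]
  simp only [C.form_sub_left, C.form_smul_left, C.form_swap_zero B.mem.1, C.form_swap_zero B.mem.2,
    mul_zero, sub_zero]
  abel

theorem Frame.form_cv (x y z x' y' z' : F) : C.form (B.cv x y z) (B.cv x' y' z') =
    x * C.bar z' + y * C.bar y' + z * C.bar x' := by
  simp only [Frame.cv, C.form_add_left, C.form_add_right, C.form_smul_left, C.form_smul_right,
    B.P.ee, B.P.ff, B.P.ef, B.P.fe, B.aa, B.mem.1, B.mem.2, C.form_swap_zero B.mem.1,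
    C.form_swap_zero B.mem.2]
  ring

theorem Frame.ext_su {X Y : ↥(Cfsg.SU 3 F q)} (he : X.1.1 *ᵥ B.P.e = Y.1.1 *ᵥ B.P.e)
    (ha : X.1.1 *ᵥ B.a = Y.1.1 *ᵥ B.a) (hf : X.1.1 *ᵥ B.P.f = Y.1.1 *ᵥ B.P.f) : X = Y := by
  refine su_ext fun x => ?_
  rw [B.decomp x, Frame.cv]
  simp only [Matrix.mulVec_add, Matrix.mulVec_smul, he, ha, hf]

theorem Frame.cond {α β : F} (h : β + C.bar β + α * C.bar α = 0) :
    β + C.bar β + C.form (α • B.a) (α • B.a) = 0 := by
  rwa [C.form_smul_left, C.form_smul_right, B.aa, mul_one]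

/-- the element of the unipotent radical with the given coordinates -/
def Frame.ev (α β : F) (h : β + C.bar β + α * C.bar α = 0) : ↥(Cfsg.SU 3 F q) :=
  B.P.eich (α • B.a) (B.P.perp.smul_mem α B.mem) β (B.cond h)

theorem Frame.ev_cv (α β : F) (h : β + C.bar β + α * C.bar α = 0) (x y z : F) :
    (B.ev α β h).1.1 *ᵥ B.cv x y z = B.cv (x + β * z - C.bar α * y) (y + α * z) z := by
  have h1 : C.form (B.cv x y z) B.P.e = z := by
    rw [← B.cv_e, B.form_cv]; simp
  have h2 : C.form (B.cv x y z) (α • B.a) = C.bar α * y := by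
    rw [C.form_smul_right, ← B.cv_a, B.form_cv]; simp
  rw [Frame.ev, B.P.eich_mulVec, h1, h2, Frame.cv, Frame.cv]
  module

theorem Frame.ev_e (α β : F) (h : β + C.bar β + α * C.bar α = 0) :
    (B.ev α β h).1.1 *ᵥ B.P.e = B.P.e :=
  B.P.eich_e _ _ _ _

theorem Frame.ev_a (α β : F) (h : β + C.bar β + α * C.bar α = 0) :
    (B.ev α β h).1.1 *ᵥ B.a = B.a - C.bar α • B.P.e := by
  rw [← B.cv_a, B.ev_cv, ← B.cv_e, Frame.cv, Frame.cv, Frame.cv]
  module

theorem Frame.ev_mul {α β γ δ : F} (h : β + C.bar β + α * C.bar α = 0)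
    (h' : δ + C.bar δ + γ * C.bar γ = 0) :
    ∃ h'', B.ev α β h * B.ev γ δ h' = B.ev (α + γ) (β + δ - γ * C.bar α) h'' := by
  refine ⟨?_, ?_⟩
  · simp only [map_sub, map_add, map_mul, C.bar_bar]
    linear_combination h + h'
  rw [Frame.ev, Frame.ev, B.P.eich_mul]
  refine B.P.eich_congr (add_smul α γ B.a).symm ?_
  rw [C.form_smul_left, C.form_smul_right, B.aa, mul_one]

theorem Frame.ev_congr {α β γ δ : F} {h : β + C.bar β + α * C.bar α = 0}
    {h' : δ + C.bar δ + γ * C.bar γ = 0} (e : α = γ) (e' : β = δ) : B.ev α β h = B.ev γ δ h' := by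
  subst e e'; rfl

theorem Frame.ev_one {h : (0 : F) + C.bar 0 + 0 * C.bar 0 = 0} : B.ev 0 0 h = 1 := by
  refine B.ext_su ?_ ?_ ?_
  · rw [B.ev_e, su_one_mulVec]
  · rw [B.ev_a, su_one_mulVec]; simp
  · rw [← B.cv_f, B.ev_cv, su_one_mulVec, Frame.cv, Frame.cv]; simp

theorem Frame.ev_inv {α β : F} (h : β + C.bar β + α * C.bar α = 0) :
    ∃ h', (B.ev α β h)⁻¹ = B.ev (-α) (C.bar β) h' := by
  have h' : C.bar β + C.bar (C.bar β) + -α * C.bar (-α) = 0 := by
    rw [C.bar_bar, map_neg]; linear_combination h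
  obtain ⟨h'', he⟩ := B.ev_mul h h'
  refine ⟨h', inv_eq_of_mul_eq_one_right ?_⟩
  rw [he]
  refine (B.ev_congr (add_neg_cancel α) ?_).trans (B.ev_one (h := by simp))
  linear_combination h

/-- an element fixing the first vector and acting trivially on the graded pieces -/
theorem Frame.eq_ev {X : ↥(Cfsg.SU 3 F q)} (he : X.1.1 *ᵥ B.P.e = B.P.e) {γ : F}
    (ha : X.1.1 *ᵥ B.a = B.a - C.bar γ • B.P.e) : ∃ δ h, X = B.ev γ δ h := by
  set v := X.1.1 *ᵥ B.P.f with hv
  obtain ⟨x, y, z, hxyz⟩ : ∃ x y z, v = B.cv x y z := ⟨_, _, _, B.decomp v⟩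
  have h1 : C.form v B.P.e = 1 := by rw [hv, ← he, C.form_su, B.P.fe]
  have h2 : C.form v v = 0 := by rw [hv, C.form_su, B.P.ff]
  have h3 : C.form v (B.a - C.bar γ • B.P.e) = 0 := by
    rw [hv, ← ha, C.form_su]; exact C.form_swap_zero B.mem.2
  rw [hxyz, ← B.cv_e, B.form_cv] at h1
  have hz : z = 1 := by simpa using h1
  have hae : B.a - C.bar γ • B.P.e = B.cv (-C.bar γ) 1 0 := by
    rw [Frame.cv]; module
  rw [hxyz, hae, B.form_cv] at h3
  have hy : y = γ := by
    simp only [hz, map_zero, map_one, map_neg, C.bar_bar] at h3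
    linear_combination h3
  rw [hxyz, B.form_cv] at h2
  refine ⟨x, by simp only [hy, hz, map_one] at h2; linear_combination h2, B.ext_su ?_ ?_ ?_⟩
  · rw [he, B.ev_e]
  · rw [ha, B.ev_a]
  · subst hy hz
    rw [← hv, hxyz, ← B.cv_f, B.ev_cv]
    congr 1 <;> simp

/-- conjugation by an element of the Borel group -/
theorem Frame.conj_ev {X : ↥(Cfsg.SU 3 F q)} {l k r : F} (hl : l ≠ 0)
    (he : X.1.1 *ᵥ B.P.e = l • B.P.e) (ha : X.1.1 *ᵥ B.a = k • B.a + r • B.P.e)
    {α β : F} (h : β + C.bar β + α * C.bar α = 0) :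
    ∃ δ h', X * B.ev α β h * X⁻¹ = B.ev (α * (C.bar l * k)) δ h' := by
  have hk : k * C.bar k = 1 := by
    have h1 := C.form_su X B.a B.a
    rw [ha, B.aa, show k • B.a + r • B.P.e = B.cv r k 0 by rw [Frame.cv]; module, B.form_cv] at h1
    simpa using h1
  have hke : B.a = C.bar k • (X.1.1 *ᵥ B.a - r • B.P.e) := by
    rw [ha, add_sub_cancel_right, smul_smul, mul_comm, hk, one_smul]
  have hie : (X⁻¹).1.1 *ᵥ B.P.e = l⁻¹ • B.P.e := by
    have h1 := congrArg (fun v => l⁻¹ • ((X⁻¹).1.1 *ᵥ v)) he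
    rw [su_inv_mulVec, Matrix.mulVec_smul, inv_smul_smul₀ hl] at h1
    exact h1.symm
  have hia : (X⁻¹).1.1 *ᵥ B.a = C.bar k • (B.a - (r * l⁻¹) • B.P.e) := by
    conv_lhs => rw [hke]
    rw [Matrix.mulVec_smul, Matrix.mulVec_sub, Matrix.mulVec_smul, su_inv_mulVec, hie, smul_smul]
  refine B.eq_ev ?_ ?_
  · rw [suMat_mulVec_mul, suMat_mulVec_mul, hie, Matrix.mulVec_smul, B.ev_e, Matrix.mulVec_smul, he,
      inv_smul_smul₀ hl]
  · rw [suMat_mulVec_mul, suMat_mulVec_mul, hia]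
    simp only [Matrix.mulVec_smul, Matrix.mulVec_sub, B.ev_e, B.ev_a]
    simp only [Matrix.mulVec_smul, Matrix.mulVec_sub, he, ha, map_mul, C.bar_bar]
    match_scalars
    · linear_combination hk
    · field_simp
      ring

variable [Fintype F]

/-- a subgroup containing the radical and leaving the Borel group is everything -/
theorem Frame.top_of_ev (hF : Fintype.card F = q ^ 2) (hq : 3 ≤ q) {G : Subgroup ↥(Cfsg.SU 3 F q)}
    {v : ↥(Cfsg.SU 3 F q)} (hv : v ∈ G) (hve : ∀ c : F, v.1.1 *ᵥ B.P.e ≠ c • B.P.e)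
    (hG : ∀ γ, ∃ δ h, B.ev γ δ h ∈ G) : G = ⊤ := by
  classical
  have htr : ∀ t : F, ∀ ht : t + C.bar t = 0, C.tv B.P.e B.P.ee t ht ∈ G := fun t ht => by
    obtain ⟨y, hy⟩ := C.exists_trace (c := (1 : F)) (map_one _)
    obtain ⟨δ, h1, hX⟩ := hG 1
    set l := -(t * y) with hl
    obtain ⟨ε, h2, hY⟩ := hG l
    have hlz : C.bar l - l = t := by
      rw [hl, map_neg, map_mul, show C.bar t = -t by linear_combination ht]
      linear_combination t * hy
    have ht' : t + C.bar t + 0 * C.bar (0 : F) = 0 := by rw [zero_mul, add_zero, ht]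
    obtain ⟨_, e1⟩ := B.ev_mul h1 h2
    obtain ⟨_, e2⟩ := B.ev_mul h2 h1
    obtain ⟨_, e3⟩ := B.ev_mul ht' ((by
      simp only [map_sub, map_add, map_mul, map_one, C.bar_bar]
      have h1' := h1
      rw [map_one] at h1'
      linear_combination h1' + h2 : (ε + δ - 1 * C.bar l) + C.bar (ε + δ - 1 * C.bar l) +
        (l + 1) * C.bar (l + 1) = 0))
    have key : B.ev 0 t ht' = B.ev 1 δ h1 * B.ev l ε h2 * (B.ev l ε h2 * B.ev 1 δ h1)⁻¹ := by
      rw [eq_mul_inv_iff_mul_eq, e2, e1, e3]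
      refine B.ev_congr (by ring) ?_
      simp only [map_zero, map_one, mul_zero, sub_zero]
      linear_combination -hlz
    have hmem : B.ev 0 t ht' ∈ G := key ▸ G.mul_mem (G.mul_mem hX hY) (G.inv_mem (G.mul_mem hY hX))
    refine (show C.tv B.P.e B.P.ee t ht = B.ev 0 t ht' from B.ext_su ?_ ?_ ?_) ▸ hmem
    · rw [C.tv_mulVec, B.ev_e, B.P.ee]; simp
    · rw [C.tv_mulVec, B.ev_a, B.mem.1]; simp
    · rw [C.tv_mulVec, B.P.fe, ← B.cv_f, B.ev_cv, mul_one, Frame.cv, Frame.cv]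
      simp only [map_zero, zero_mul, mul_zero, mul_one, sub_zero, add_zero]
      module
  have hev : ∀ γ δ h, B.ev γ δ h ∈ G := fun γ δ h => by
    obtain ⟨ε, h', hX⟩ := hG γ
    have ht : δ - ε + C.bar (δ - ε) = 0 := by rw [map_sub]; linear_combination h - h'
    have ht' : δ - ε + C.bar (δ - ε) + 0 * C.bar (0 : F) = 0 := by rw [zero_mul, add_zero, ht]
    obtain ⟨_, e1⟩ := B.ev_mul h' ht'
    have he : B.ev γ δ h = B.ev γ ε h' * B.ev 0 (δ - ε) ht' := by
      rw [e1]; refine B.ev_congr (add_zero γ).symm ?_; ring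
    refine he ▸ G.mul_mem hX ?_
    refine (show B.ev 0 (δ - ε) ht' = C.tv B.P.e B.P.ee (δ - ε) ht from B.ext_su ?_ ?_ ?_) ▸ htr _ ht
    · rw [C.tv_mulVec, B.ev_e, B.P.ee]; simp
    · rw [C.tv_mulVec, B.ev_a, B.mem.1]; simp
    · rw [C.tv_mulVec, B.P.fe, ← B.cv_f, B.ev_cv, mul_one, Frame.cv, Frame.cv]
      simp only [map_zero, zero_mul, mul_zero, mul_one, sub_zero, add_zero]
      module
  -- every isotropic point
  have hpt : ∀ x : Fin 3 → F, x ≠ 0 → C.form x x = 0 → (∀ c : F, x ≠ c • B.P.e) →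
      ∃ A ∈ G, ∃ c : F, x = c • (A.1.1 *ᵥ B.P.f) := fun x hx hxx hxe => by
    have hne : C.form x B.P.e ≠ 0 := fun h0 => by
      refine hxe (C.form x B.P.f) ?_
      have hd := B.decomp x
      rw [h0] at hd
      have h1 := congrArg (fun v => C.form v v) hd
      simp only [B.form_cv, hxx] at h1
      have : C.form x B.a = 0 := by simpa using h1.symm
      rw [this, Frame.cv] at hd
      simpa using hd
    obtain ⟨w, hw, t, ht, he⟩ := B.P.exists_eich_point hxx hne
    refine ⟨_, ?_, _, he⟩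
    have hws := B.span w hw
    have ht2 : t + C.bar t + C.form w B.a * C.bar (C.form w B.a) = 0 := by
      conv_lhs at ht => rw [hws]
      rwa [C.form_smul_left, C.form_smul_right, B.aa, mul_one] at ht
    rw [B.P.eich_congr (hw' := B.P.perp.smul_mem _ B.mem) (ht' := B.cond ht2) hws rfl]
    exact hev _ t ht2
  have hall : ∀ x : Fin 3 → F, x ≠ 0 → C.form x x = 0 →
      ∃ A ∈ G, ∃ c : F, x = c • (A.1.1 *ᵥ B.P.e) := fun x hx hxx => by
    by_cases hxe : ∃ c : F, x = c • B.P.e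
    · obtain ⟨c, rfl⟩ := hxe
      exact ⟨1, G.one_mem, c, by rw [su_one_mulVec]⟩
    push Not at hxe
    obtain ⟨A, hA, c, hc⟩ := hpt x hx hxx hxe
    obtain ⟨E, hE, d, hd⟩ := hpt _ (su_mulVec_ne_zero v B.P.e_ne_zero) (by rw [C.form_su, B.P.ee]) hve
    have hd0 : d ≠ 0 := fun h0 => su_mulVec_ne_zero v B.P.e_ne_zero (by rw [hd, h0, zero_smul])
    refine ⟨A * (E⁻¹ * v), G.mul_mem hA (G.mul_mem (G.inv_mem hE) hv), c * d⁻¹, ?_⟩
    rw [suMat_mulVec_mul, suMat_mulVec_mul, hd, Matrix.mulVec_smul, su_inv_mulVec, Matrix.mulVec_smul,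
      smul_smul, mul_assoc, inv_mul_cancel₀ hd0, mul_one, hc]
  rw [eq_top_iff, ← CfsgLib.Perm.Trans.Unit.su_closure hF 3 le_rfl (by omega), Subgroup.closure_le]
  rintro X ⟨x, s, hxx, hX⟩
  rw [Cfsg.hermForm, C.hermForm_eq] at hxx
  have hX' : ∀ y, X.1.1 *ᵥ y = y + (s * C.form y x) • x := fun y => by
    rw [hX, CfsgLib.Perm.Trans.Unit.unitaryTransvection_mulVec, Cfsg.hermForm, C.hermForm_eq]
  by_cases hx : x = 0
  · have : X = 1 := su_ext fun y => by rw [hX', su_one_mulVec, hx, smul_zero, add_zero]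
    exact this ▸ G.one_mem
  obtain ⟨A, hA, c, hc⟩ := hall x hx hxx
  have hs : s + C.bar s = 0 := by
    obtain ⟨y, hy⟩ := C.exists_form_eq_one hx
    have := C.form_su X y y
    rw [hX', C.form_add_left, C.form_add_right, C.form_add_right, C.form_smul_left, C.form_smul_left,
      C.form_smul_right, C.form_smul_right, hy, show C.form x y = 1 by rw [← C.bar_form, hy, map_one],
      hxx] at this
    simp only [mul_one, mul_zero, add_zero] at this
    linear_combination this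
  have ht : s * (c * C.bar c) + C.bar (s * (c * C.bar c)) = 0 := by
    rw [map_mul, C.norm_fixed]; linear_combination (c * C.bar c) * hs
  refine (show X = A * C.tv B.P.e B.P.ee _ ht * A⁻¹ from su_ext fun y => ?_) ▸
    G.mul_mem (G.mul_mem hA (htr _ ht)) (G.inv_mem hA)
  rw [C.tv_conj, C.tv_mulVec, hX', hc, C.form_smul_right, smul_smul]
  congr 2
  ring

/-- multipliers of an additive subgroup fill the ring they generate -/
theorem addSubgroup_eq_top {V : AddSubgroup F} {m α : F} (hα : α ≠ 0) (hαV : α ∈ V)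
    (hm : ∀ γ ∈ V, γ * m ∈ V) (hgen : Subring.closure ({m} : Set F) = ⊤) (γ : F) : γ ∈ V := by
  have key : ∀ r ∈ Subring.closure ({m} : Set F), ∀ x ∈ V, x * r ∈ V := fun r hr => by
    induction hr using Subring.closure_induction with
    | mem x hx => rw [Set.mem_singleton_iff] at hx; subst hx; exact hm
    | zero => intro x _; rw [mul_zero]; exact V.zero_mem
    | one => intro x hx; rwa [mul_one]
    | add a b _ _ ha hb => intro x hx; rw [mul_add]; exact V.add_mem (ha x hx) (hb x hx)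
    | neg a _ ha => intro x hx; rw [mul_neg]; exact V.neg_mem (ha x hx)
    | mul a b _ _ ha hb => intro x hx; rw [← mul_assoc]; exact hb _ (ha x hx)
  have h := key (α⁻¹ * γ) (hgen ▸ Subring.mem_top _) α hαV
  rwa [← mul_assoc, mul_inv_cancel₀ hα, one_mul] at h

/-- the additive group of first coordinates of the radical part of a subgroup -/
def Frame.coords (G : Subgroup ↥(Cfsg.SU 3 F q)) : AddSubgroup F where
  carrier := {γ | ∃ δ h, B.ev γ δ h ∈ G}
  zero_mem' := ⟨0, by simp, by rw [B.ev_one]; exact G.one_mem⟩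
  add_mem' := by
    rintro a b ⟨δ, h, hX⟩ ⟨ε, h', hY⟩
    obtain ⟨h'', he⟩ := B.ev_mul h h'
    exact ⟨_, h'', he ▸ G.mul_mem hX hY⟩
  neg_mem' := by
    rintro a ⟨δ, h, hX⟩
    obtain ⟨h', he⟩ := B.ev_inv h
    exact ⟨_, h', he ▸ G.inv_mem hX⟩

/-- the criterion -/
theorem Frame.top_of_borel (hF : Fintype.card F = q ^ 2) (hq : 3 ≤ q) {G : Subgroup ↥(Cfsg.SU 3 F q)}
    {α β : F} {h : β + C.bar β + α * C.bar α = 0} (hα : α ≠ 0) (hu : B.ev α β h ∈ G)
    {v : ↥(Cfsg.SU 3 F q)} (hv : v ∈ G) (hve : ∀ c : F, v.1.1 *ᵥ B.P.e ≠ c • B.P.e)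
    {X : ↥(Cfsg.SU 3 F q)} (hX : X ∈ G) {l k r : F} (hl : l ≠ 0)
    (he : X.1.1 *ᵥ B.P.e = l • B.P.e) (ha : X.1.1 *ᵥ B.a = k • B.a + r • B.P.e)
    (hgen : Subring.closure ({C.bar l * k} : Set F) = ⊤) : G = ⊤ :=
  B.top_of_ev hF hq hv hve fun γ => addSubgroup_eq_top (V := B.coords G) hα ⟨β, h, hu⟩
    (fun x hx => by
      obtain ⟨δ, h', hY⟩ := hx
      obtain ⟨ε, h'', he'⟩ := B.conj_ev hl he ha h'
      exact ⟨ε, h'', he' ▸ G.mul_mem (G.mul_mem hX hY) (G.inv_mem hX)⟩) hgen γ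

end CfsgLib.RegUnip.SU
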