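import Cfsg.Agent.Lib.RegUnip.Params
import Cfsg.Agent.Lib.SU.Ctx

/-!
A norm one element whose ninth power generates the field.
-/

set_option autoImplicit false

namespace CfsgLib.RegUnip.SU

open CfsgLib.SU

variable {F : Type*} [Field F] [Fintype F] {q : ℕ}

theorem exists_norm_param (C : UCtx F q) (hF : Fintype.card F = q ^ 2) (hq : 3 ≤ q)
    (h3 : q ≠ 3) (h5 : q ≠ 5) (h8 : q ≠ 8) (h11 : q ≠ 11) :
    ∃ μ : F, μ * C.bar μ = 1 ∧ μ ^ 12 ≠ 1 ∧
      (Subring.closure ({μ ^ 9} : Set F) = ⊤ ∨ q.Prime) := by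
  classical
  obtain ⟨p, hpc⟩ := CharP.exists F
  obtain ⟨k, hp, hk⟩ := FiniteField.card F p
  haveI : Fact p.Prime := ⟨hp⟩
  obtain ⟨f, -, hqdef⟩ : ∃ f ≤ (k : ℕ), q = p ^ f :=
    (Nat.dvd_prime_pow hp).1 (hk ▸ hF ▸ dvd_pow_self q two_ne_zero)
  obtain ⟨ω, hω0, -, hord⟩ := exists_closure_eq_top (F := F)
  have hF2 : Fintype.card F = p ^ (2 * f) := by rw [hF, hqdef, ← pow_mul, mul_comm]
  rw [hF] at hord
  have hf : (q - 1) * (q + 1) = q ^ 2 - 1 := by
    rw [mul_comm, ← Nat.sq_sub_sq, one_pow]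
  set μ := ω ^ (q - 1) with hμdef
  have hoμ : orderOf μ = q + 1 := by
    rw [hμdef, orderOf_pow' _ (by omega : q - 1 ≠ 0), hord,
      Nat.gcd_eq_right (hf ▸ dvd_mul_right (q - 1) (q + 1)), ← hf, Nat.mul_div_cancel_left _ (by omega)]
  have hbar : C.bar μ = μ ^ q := C.bar_eq μ
  have hμ : μ * C.bar μ = 1 := by rw [hbar, ← pow_succ', ← hoμ, pow_orderOf_eq_one]
  have h12 : μ ^ 12 ≠ 1 := by
    intro h
    have hd := orderOf_dvd_of_pow_eq_one h
    rw [hoμ] at hd
    have hle := Nat.le_of_dvd (by norm_num) hd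
    have hle' : q ≤ 11 := by omega
    interval_cases q <;> omega
  refine ⟨μ, hμ, h12, ?_⟩
  by_cases hpr : q.Prime
  · exact Or.inr hpr
  refine Or.inl ?_
  by_contra hne
  set x := μ ^ 9
  have hμ0 : μ ≠ 0 := fun h0 => by rw [h0, zero_mul] at hμ; exact zero_ne_one hμ
  obtain ⟨i, hi0, hif, hi⟩ : ∃ i, 0 < i ∧ i < 2 * f ∧ x ^ (p ^ i - 1) = 1 := by
    by_contra hc
    push Not at hc
    exact hne (CfsgLib.SLGen.closure_eq_top hF2 (pow_ne_zero _ hμ0) hc)
  have hper : ∀ j, Function.IsPeriodicPt (fun y : F => y ^ p) j x ↔ x ^ (p ^ j) = x := fun j => by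
    rw [Function.IsPeriodicPt, Function.IsFixedPt, pow_iterate]
  have h1 : x ^ (p ^ i) = x := by
    rw [show p ^ i = p ^ i - 1 + 1 by have := Nat.one_le_pow i p hp.pos; omega, pow_succ, hi, one_mul]
  have h2 : x ^ (p ^ (2 * f)) = x := by rw [← hF2]; exact FiniteField.pow_card x
  have hg := ((hper i).2 h1).gcd ((hper (2 * f)).2 h2)
  set g := Nat.gcd i (2 * f)
  have hgd : g ∣ 2 * f := Nat.gcd_dvd_right _ _
  have hglt : g < 2 * f := lt_of_le_of_lt (Nat.le_of_dvd hi0 (Nat.gcd_dvd_left _ _)) hif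
  have hxq : x ^ q * x = 1 := by
    rw [← pow_succ, ← pow_mul, mul_comm, pow_mul, ← hoμ, pow_orderOf_eq_one, one_pow]
  by_cases hgf : g ∣ f
  · obtain ⟨m, hm⟩ := hgf
    have h := (hper _).1 (hg.mul_const m)
    rw [← hm, ← hqdef] at h
    rw [h] at hxq
    have hd := orderOf_dvd_of_pow_eq_one (show μ ^ 18 = 1 by rw [show 18 = 9 + 9 from rfl, pow_add]; exact hxq)
    rw [hoμ] at hd
    have hle := Nat.le_of_dvd (by norm_num) hd
    have hle' : q ≤ 17 := by omega
    interval_cases q <;> first | omega | exact hpr (by norm_num)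
  · have hev : 2 ∣ g := by
      by_contra h
      exact hgf (((Nat.Prime.coprime_iff_not_dvd Nat.prime_two).2 h).symm.dvd_of_dvd_mul_left hgd)
    obtain ⟨j, hj⟩ := hev
    rw [hj] at hgd hgf hglt hg
    obtain ⟨m, hm⟩ := Nat.dvd_of_mul_dvd_mul_left (by norm_num) hgd
    rcases Nat.even_or_odd' m with ⟨l, rfl | rfl⟩
    · exact hgf ⟨l, by rw [hm]; ring⟩
    have hl : 1 ≤ l := by
      rcases Nat.eq_zero_or_pos l with rfl | h
      · simp only [mul_zero, zero_add, mul_one] at hm; omega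
      · exact h
    have hg' := (hper _).1 (hg.mul_const l)
    have hxj : x ^ q = x ^ (p ^ j) := by
      rw [hqdef, show f = 2 * j * l + j by rw [hm]; ring, pow_add, pow_mul, hg']
    rw [hxj, ← pow_succ, ← pow_mul] at hxq
    have hd := orderOf_dvd_of_pow_eq_one hxq
    rw [hoμ] at hd
    have hle := Nat.le_of_dvd (Nat.mul_pos (by norm_num) (Nat.succ_pos _)) hd
    have hj1 : 1 ≤ j := by rcases Nat.eq_zero_or_pos j with rfl | h <;> omega
    have hcube : (p ^ j) ^ 3 ≤ q := by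
      rw [hqdef, ← pow_mul]
      exact Nat.pow_le_pow_right hp.pos (by rw [hm]; nlinarith)
    have hr2 : 2 ≤ p ^ j := le_trans hp.two_le (Nat.le_self_pow (by omega) p)
    have hr3 : p ^ j ≤ 3 := by
      by_contra hlt
      nlinarith [Nat.mul_le_mul (show 4 ≤ p ^ j by omega) (show 4 ≤ p ^ j by omega)]
    have hj' : j = 1 := by
      by_contra h
      have : p ^ 2 ≤ p ^ j := Nat.pow_le_pow_right hp.pos (by omega)
      nlinarith [hp.two_le]
    subst hj'
    rw [pow_one] at hd hr3 hle hcube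
    rw [one_mul] at hm
    have hp23 : p = 2 ∨ p = 3 := by have := hp.two_le; omega
    have hfle : f ≤ 5 := by
      by_contra h
      have : 2 ^ 6 ≤ q := le_trans (Nat.pow_le_pow_left hp.two_le 6)
        (hqdef ▸ Nat.pow_le_pow_right hp.pos (by omega))
      rcases hp23 with rfl | rfl <;> omega
    rcases hp23 with rfl | rfl <;> interval_cases f <;> simp only [hqdef] at * <;> norm_num at * <;> omega

end CfsgLib.RegUnip.SU
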