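import Cfsg.Agent.Lib.RegUnip.SU.SmallCert
import Cfsg.Agent.Lib.RegUnip.SU.Norm

/-!
`SU_3(q)`, `q ≥ 3`, is generated by two conjugate regular unipotent elements.
-/

set_option autoImplicit false

namespace CfsgLib.RegUnip.SU

open Matrix CfsgLib.SU

variable {F : Type*} [Field F] {q : ℕ} {C : UCtx F q} (B : Frame C)

theorem Frame.ev_regular {α β : F} (h : β + C.bar β + α * C.bar α = 0) (hα : α ≠ 0) :
    IsNilpotent ((B.ev α β h).1.1 - 1) ∧ ((B.ev α β h).1.1 - 1) ^ (3 - 1) ≠ 0 := by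
  set N := (B.ev α β h).1.1 - 1 with hN
  have hstep : ∀ x y z : F, N *ᵥ B.cv x y z = B.cv (β * z - C.bar α * y) (α * z) 0 := fun x y z => by
    rw [hN, Matrix.sub_mulVec, Matrix.one_mulVec, B.ev_cv, Frame.cv, Frame.cv, Frame.cv]
    module
  refine ⟨⟨3, Matrix.ext_iff_mulVec.2 fun x => ?_⟩, fun h0 => ?_⟩
  · rw [B.decomp x, pow_three, ← Matrix.mulVec_mulVec, ← Matrix.mulVec_mulVec, hstep, hstep, hstep,
      Matrix.zero_mulVec, Frame.cv]
    simp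
  · have h1 : N ^ 2 *ᵥ B.cv 0 0 1 = 0 := by
      rw [show N ^ 2 = N ^ (3 - 1) from rfl, h0, Matrix.zero_mulVec]
    rw [sq, ← Matrix.mulVec_mulVec, hstep, hstep, show (0 : Fin 3 → F) = B.cv 0 0 0 by simp [Frame.cv]] at h1
    have := (B.cv_inj h1).1
    simp [hα] at this

theorem su_three [Fintype F] (hq : 3 ≤ q) (hF : Fintype.card F = q ^ 2) :
    ∃ u g : ↥(Cfsg.SU 3 F q), (IsNilpotent (u.1.1 - 1) ∧ (u.1.1 - 1) ^ (3 - 1) ≠ 0) ∧
      Subgroup.closure ({u, g * u * g⁻¹} : Set ↥(Cfsg.SU 3 F q)) = ⊤ := by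
  obtain ⟨C⟩ := CfsgLib.Perm.Trans.Unit.ctx_of_card hF
  obtain ⟨B⟩ := exists_frame C
  have key : ∃ α β h, α ≠ 0 ∧ ∃ g : ↥(Cfsg.SU 3 F q),
      Subgroup.closure ({B.ev α β h, g * B.ev α β h * g⁻¹} : Set ↥(Cfsg.SU 3 F q)) = ⊤ := by
    by_cases h3 : q = 3
    · subst h3; exact two_conj_three B hF
    by_cases h5 : q = 5
    · subst h5; exact two_conj_five B hF
    by_cases h8 : q = 8
    · subst h8; exact two_conj_eight B hF
    by_cases h11 : q = 11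
    · subst h11; exact two_conj_eleven B hF
    obtain ⟨μ, hμ, h12, hgen⟩ := exists_norm_param C hF hq h3 h5 h8 h11
    exact B.two_conj hF hq hμ h12 hgen
  obtain ⟨α, β, h, hα, g, hg⟩ := key
  exact ⟨_, g, B.ev_regular h hα, hg⟩

end CfsgLib.RegUnip.SU
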