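import Cfsg.Agent.Lib.RegUnip.Plane

/-!
Two opposite transvections of `SL_2` generate a group containing an element which carries one fixed point
to the other.
-/

set_option autoImplicit false

namespace CfsgLib.RegUnip.SU

open Matrix CfsgLib.Perm.Dickson CfsgLib.RegUnip

variable {F : Type*} [Field F] [Finite F] {p : ℕ} [Fact p.Prime] [CharP F p]

omit [Finite F] in
theorem upper_pow (z : SL2F F) (h : z.1 1 0 = 0) (m : ℕ) :
    (z ^ m).1 1 0 = 0 ∧ (z ^ m).1 0 0 = z.1 0 0 ^ m := by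
  induction m with
  | zero => simp
  | succ m ih =>
    rw [pow_succ, Matrix.SpecialLinearGroup.coe_mul, Matrix.mul_apply, Matrix.mul_apply,
      Fin.sum_univ_two, Fin.sum_univ_two, ih.1, ih.2, h, pow_succ]
    exact ⟨by ring, by ring⟩

omit [Finite F] in
theorem lower_pow (z : SL2F F) (h : z.1 0 1 = 0) (m : ℕ) :
    (z ^ m).1 0 1 = 0 ∧ (z ^ m).1 0 0 = z.1 0 0 ^ m := by
  induction m with
  | zero => simp
  | succ m ih =>
    rw [pow_succ, Matrix.SpecialLinearGroup.coe_mul, Matrix.mul_apply, Matrix.mul_apply,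
      Fin.sum_univ_two, Fin.sum_univ_two, ih.1, ih.2, h, pow_succ]
    exact ⟨by ring, by ring⟩

omit [Finite F] in
theorem eq_one_of_sq_and_pow {x : F} {k : ℕ} (h2 : x ^ 2 = 1) (hk : x ^ p ^ k = 1) : x = 1 := by
  have h : (x - 1) ^ p ^ k = 0 := by rw [sub_pow_char_pow, one_pow, hk, sub_self]
  exact sub_eq_zero.1 (eq_zero_of_pow_eq_zero h)

theorem pgroup_fix_upper {Q : Subgroup (SL2F F)} (hQ : IsPGroup p Q) {s : F} (hs : s ≠ 0)
    (hA : trA s ∈ Q) (x : SL2F F) (hx : x ∈ Q) : x.1 1 0 = 0 := by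
  haveI : Nontrivial Q := ⟨⟨⟨trA s, hA⟩, 1, fun h => hs (by
    have := congrArg (fun y : Q => y.1.1 0 1) h
    simpa [trA] using this)⟩⟩
  haveI := hQ.center_nontrivial
  obtain ⟨⟨z, hz⟩, hz1⟩ := exists_ne (1 : Subgroup.center Q)
  have hcomm : ∀ y : Q, y * z = z * y := fun y => Subgroup.mem_center_iff.1 hz y
  have e := congrArg (fun y : Q => y.1.1) (hcomm ⟨trA s, hA⟩)
  simp only [Subgroup.coe_mul, Matrix.SpecialLinearGroup.coe_mul] at e
  have e00 := congrFun (congrFun e 0) 0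
  have e01 := congrFun (congrFun e 0) 1
  simp [trA, Matrix.mul_apply, Fin.sum_univ_two] at e00 e01
  have h10 : z.1.1 1 0 = 0 := by
    rcases e00 with h | h
    · exact absurd h hs
    · exact h
  have hd : z.1.1 0 0 * z.1.1 1 1 = 1 := by
    have := z.1.2; rw [det_fin_two, h10, mul_zero, sub_zero] at this; exact this
  have h11 : z.1.1 1 1 = z.1.1 0 0 := mul_left_cancel₀ hs (by linear_combination e01)
  obtain ⟨k, hk⟩ := hQ z
  have hk' : (z.1 ^ p ^ k) = 1 := by rw [← Subgroup.coe_pow, hk, Subgroup.coe_one]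
  have h00 : z.1.1 0 0 = 1 := eq_one_of_sq_and_pow (p := p) (k := k) (by rw [h11] at hd; rw [sq, hd])
    (by rw [← (upper_pow z.1 h10 _).2, hk']; simp)
  have h01 : z.1.1 0 1 ≠ 0 := fun h => hz1 (Subtype.ext (Subtype.ext (Subtype.ext (by
    ext i j; fin_cases i <;> fin_cases j <;> simp [h00, h10, h11, h]))))
  have f := congrArg (fun y : Q => y.1.1 0 0) (hcomm ⟨x, hx⟩)
  simp only [Subgroup.coe_mul, Matrix.SpecialLinearGroup.coe_mul, Matrix.mul_apply, Fin.sum_univ_two,
    h00, h10] at f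
  exact mul_left_cancel₀ h01 (by linear_combination -f)

theorem pgroup_fix_lower {Q : Subgroup (SL2F F)} (hQ : IsPGroup p Q) {s : F} (hs : s ≠ 0)
    (hA : loA s ∈ Q) (x : SL2F F) (hx : x ∈ Q) : x.1 0 1 = 0 := by
  haveI : Nontrivial Q := ⟨⟨⟨loA s, hA⟩, 1, fun h => hs (by
    have := congrArg (fun y : Q => y.1.1 1 0) h
    simpa [loA] using this)⟩⟩
  haveI := hQ.center_nontrivial
  obtain ⟨⟨z, hz⟩, hz1⟩ := exists_ne (1 : Subgroup.center Q)
  have hcomm : ∀ y : Q, y * z = z * y := fun y => Subgroup.mem_center_iff.1 hz y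
  have e := congrArg (fun y : Q => y.1.1) (hcomm ⟨loA s, hA⟩)
  simp only [Subgroup.coe_mul, Matrix.SpecialLinearGroup.coe_mul] at e
  have e00 := congrFun (congrFun e 0) 0
  have e10 := congrFun (congrFun e 1) 0
  simp [loA, Matrix.mul_apply, Fin.sum_univ_two] at e00 e10
  have h01 : z.1.1 0 1 = 0 := by
    rcases e00 with h | h
    · exact h
    · exact absurd h hs
  have hd : z.1.1 0 0 * z.1.1 1 1 = 1 := by
    have := z.1.2; rw [det_fin_two, h01, zero_mul, sub_zero] at this; exact this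
  have h11 : z.1.1 1 1 = z.1.1 0 0 := mul_left_cancel₀ hs (by linear_combination -e10)
  obtain ⟨k, hk⟩ := hQ z
  have hk' : (z.1 ^ p ^ k) = 1 := by rw [← Subgroup.coe_pow, hk, Subgroup.coe_one]
  have h00 : z.1.1 0 0 = 1 := eq_one_of_sq_and_pow (p := p) (k := k) (by rw [h11] at hd; rw [sq, hd])
    (by rw [← (lower_pow z.1 h01 _).2, hk']; simp)
  have h10 : z.1.1 1 0 ≠ 0 := fun h => hz1 (Subtype.ext (Subtype.ext (Subtype.ext (by
    ext i j; fin_cases i <;> fin_cases j <;> simp [h00, h01, h11, h]))))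
  have f := congrArg (fun y : Q => y.1.1 0 0) (hcomm ⟨x, hx⟩)
  simp only [Subgroup.coe_mul, Matrix.SpecialLinearGroup.coe_mul, Matrix.mul_apply, Fin.sum_univ_two,
    h00, h01] at f
  exact mul_right_cancel₀ h10 (by linear_combination f)

omit [Finite F] in
theorem transv_pow (s : F) (m : ℕ) : trA s ^ m = trA ((m : F) * s) := by
  induction m with
  | zero => rw [pow_zero]; refine Subtype.ext ?_; ext i j; fin_cases i <;> fin_cases j <;> simp [trA]
  | succ m ih =>
    rw [pow_succ, ih]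
    refine Subtype.ext ?_
    rw [Matrix.SpecialLinearGroup.coe_mul]
    ext i j
    fin_cases i <;> fin_cases j <;> simp [trA, Matrix.mul_apply, Fin.sum_univ_two]
    ring

omit [Finite F] in
theorem lo_pow (s : F) (m : ℕ) : loA s ^ m = loA ((m : F) * s) := by
  induction m with
  | zero => rw [pow_zero]; refine Subtype.ext ?_; ext i j; fin_cases i <;> fin_cases j <;> simp [loA]
  | succ m ih =>
    rw [pow_succ, ih]
    refine Subtype.ext ?_
    rw [Matrix.SpecialLinearGroup.coe_mul]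
    ext i j
    fin_cases i <;> fin_cases j <;> simp [loA, Matrix.mul_apply, Fin.sum_univ_two]
    ring

/-- the group of two opposite transvections contains an element moving `⟨(0, 1)⟩` to `⟨(1, 0)⟩` -/
theorem exists_swap (p : ℕ) [Fact p.Prime] [CharP F p] {s t : F} (hs : s ≠ 0) (ht : t ≠ 0) :
    ∃ g ∈ Subgroup.closure ({trA s, loA t} : Set (SL2F F)), g.1 1 1 = 0 := by
  classical
  set D := Subgroup.closure ({trA s, loA t} : Set (SL2F F))
  let A : D := ⟨trA s, Subgroup.subset_closure (Set.mem_insert _ _)⟩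
  let B : D := ⟨loA t, Subgroup.subset_closure (Set.mem_insert_of_mem _ rfl)⟩
  have hA : A ^ p = 1 := Subtype.ext (by
    show trA s ^ p = 1
    rw [transv_pow, CharP.cast_eq_zero, zero_mul]
    refine Subtype.ext ?_; ext i j; fin_cases i <;> fin_cases j <;> simp [trA])
  have hB : B ^ p = 1 := Subtype.ext (by
    show loA t ^ p = 1
    rw [lo_pow, CharP.cast_eq_zero, zero_mul]
    refine Subtype.ext ?_; ext i j; fin_cases i <;> fin_cases j <;> simp [loA])
  have hpg : ∀ X : D, X ^ p = 1 → IsPGroup p (Subgroup.zpowers X) := fun X hX => by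
    rintro ⟨_, i, rfl⟩
    refine ⟨1, Subtype.ext ?_⟩
    show (X ^ i) ^ p ^ 1 = 1
    rw [pow_one, ← zpow_natCast, ← _root_.zpow_mul, mul_comm, _root_.zpow_mul, zpow_natCast, hX,
      _root_.one_zpow]
  obtain ⟨P, hP⟩ := (hpg A hA).exists_le_sylow
  obtain ⟨Q, hQ⟩ := (hpg B hB).exists_le_sylow
  obtain ⟨g, hg⟩ := MulAction.exists_smul_eq D Q P
  have hmem : g * B * g⁻¹ ∈ (P : Subgroup D) := by
    rw [← hg, Sylow.coe_subgroup_smul]
    exact Subgroup.smul_mem_pointwise_smul B (MulAut.conj g) _ (hQ (Subgroup.mem_zpowers B))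
  have h := pgroup_fix_upper (p := p) (Q := (P : Subgroup D).map D.subtype) (P.isPGroup'.map _) hs
    ⟨A, hP (Subgroup.mem_zpowers A), rfl⟩ _ ⟨_, hmem, rfl⟩
  refine ⟨g.1, g.2, ?_⟩
  have hval : ((D.subtype (g * B * g⁻¹)).1) = g.1.1 * (loA t).1 * (g.1.1).adjugate := by
    show ((g.1 * loA t * g.1⁻¹ : SL2F F)).1 = _
    rw [Matrix.SpecialLinearGroup.coe_mul, Matrix.SpecialLinearGroup.coe_mul,
      Matrix.SpecialLinearGroup.coe_inv]
  rw [hval, Matrix.adjugate_fin_two] at h
  simp [loA, Matrix.mul_apply, Fin.sum_univ_two] at h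
  have h2 : t * (g.1.1 1 1 * g.1.1 1 1) = 0 := by linear_combination h
  exact mul_self_eq_zero.1 ((mul_eq_zero.1 h2).resolve_left ht)

end CfsgLib.RegUnip.SU
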