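import Cfsg.Agent.Lib.RegUnip.SU.Crit
import Cfsg.Agent.Lib.RegUnip.SU.Swap

/-!
Two conjugate regular unipotent elements of `SU_3(q)` generating it, from a norm one parameter.
-/

set_option autoImplicit false

namespace CfsgLib.RegUnip.SU

open Matrix CfsgLib.SU CfsgLib.Perm.Dickson CfsgLib.RegUnip

variable {F : Type*} [Field F] {q : ℕ} {C : UCtx F q} (B : Frame C)

/-- the frame with the pair exchanged -/
def Frame.swap : Frame C where
  P := ⟨B.P.f, B.P.e, B.P.ff, B.P.ee, B.P.fe⟩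
  a := B.a
  mem := ⟨B.mem.2, B.mem.1⟩
  aa := B.aa
  span w hw := B.span w ⟨hw.2, hw.1⟩

theorem Frame.swap_cv (x y z : F) : B.swap.cv x y z = B.cv z y x := by
  show x • B.P.f + y • B.a + z • B.P.e = z • B.P.e + y • B.a + x • B.P.f
  abel

theorem Frame.cv_inj {x y z x' y' z' : F} (h : B.cv x y z = B.cv x' y' z') :
    x = x' ∧ y = y' ∧ z = z' := by
  refine ⟨?_, ?_, ?_⟩
  · simpa [B.form_cv, ← B.cv_f] using congrArg (fun v => C.form v B.P.f) h
  · simpa [B.form_cv, ← B.cv_a] using congrArg (fun v => C.form v B.a) h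
  · simpa [B.form_cv, ← B.cv_e] using congrArg (fun v => C.form v B.P.e) h

theorem Frame.ev_swap_cv (α β : F) (h : β + C.bar β + α * C.bar α = 0) (x y z : F) :
    (B.swap.ev α β h).1.1 *ᵥ B.cv x y z = B.cv x (y + α * x) (z + β * x - C.bar α * y) := by
  rw [← B.swap_cv, B.swap.ev_cv, B.swap_cv]

/-- the involution exchanging the pair -/
def Frame.flip : ↥(Cfsg.SU 3 F q) :=
  C.mkSU (-(C.rmap (B.P.e + B.P.f) (B.P.e + B.P.f) (-1)))
    (by
      rw [Matrix.det_neg, C.det_rmap, C.form_add_left, C.form_add_right, C.form_add_right, B.P.ee,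
        B.P.ff, B.P.ef, B.P.fe, Fintype.card_fin]
      ring)
    fun u v => by
      simp only [Matrix.neg_mulVec, C.form_neg_left, C.form_neg_right, neg_neg, C.rmap_mulVec,
        C.form_add_left, C.form_add_right, C.form_smul_left, C.form_smul_right, B.P.ee, B.P.ff,
        B.P.ef, B.P.fe, map_mul, map_neg, map_one, map_add, C.bar_form]
      ring

theorem Frame.flip_cv (x y z : F) : B.flip.1.1 *ᵥ B.cv x y z = B.cv z (-y) x := by
  rw [Frame.flip, UCtx.mkSU_val, Matrix.neg_mulVec, C.rmap_mulVec, C.form_add_right]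
  have h1 : C.form (B.cv x y z) B.P.e = z := by rw [← B.cv_e, B.form_cv]; simp
  have h2 : C.form (B.cv x y z) B.P.f = x := by rw [← B.cv_f, B.form_cv]; simp
  rw [h1, h2, Frame.cv, Frame.cv]
  module

theorem Frame.flip_conj (α β : F) (h : β + C.bar β + α * C.bar α = 0) :
    ∃ h', B.flip * B.ev α β h * B.flip⁻¹ = B.swap.ev (-α) β h' := by
  refine ⟨by rw [map_neg]; linear_combination h, ?_⟩
  rw [mul_inv_eq_iff_eq_mul]
  refine su_ext fun x => ?_
  rw [B.decomp x, suMat_mulVec_mul, suMat_mulVec_mul, B.ev_cv, B.flip_cv, B.flip_cv, B.ev_swap_cv,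
    map_neg]
  congr 1 <;> ring

variable [Fintype F]

/-- the conjugate -/
theorem Frame.exists_conj {α β ν : F} (h : β + C.bar β + α * C.bar α = 0) (hν : ν ≠ 0)
    (hβ : β * ν = C.bar ν * C.bar ν) :
    ∃ (g : ↥(Cfsg.SU 3 F q)) (h' : (C.bar β)⁻¹ + C.bar (C.bar β)⁻¹ +
      -(α / C.bar β) * C.bar (-(α / C.bar β)) = 0),
      g * B.ev α β h * g⁻¹ = B.swap.ev (-(α / C.bar β)) (C.bar β)⁻¹ h' := by
  have hνb : C.bar ν ≠ 0 := (map_ne_zero_iff _ C.bar.injective).2 hν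
  have hβ0 : β ≠ 0 := fun h0 => by rw [h0, zero_mul] at hβ; exact mul_ne_zero hνb hνb hβ.symm
  have hbb : C.bar β ≠ 0 := (map_ne_zero_iff _ C.bar.injective).2 hβ0
  have hbar : C.bar β * C.bar ν = ν * ν := by
    have h1 := congrArg C.bar hβ
    rwa [map_mul, map_mul, C.bar_bar] at h1
  obtain ⟨h1, hW⟩ := B.flip_conj α β h
  obtain ⟨L, hL, hLw⟩ := B.swap.P.exists_diag B.swap.mem B.swap.aa
    (y := (C.bar ν)⁻¹) (inv_ne_zero hνb)
  have hmem : -α • B.swap.a ∈ B.swap.P.perp := B.swap.P.perp.smul_mem _ B.swap.mem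
  obtain ⟨h2, hc⟩ := hL.conj_eich hmem (B.swap.cond h1)
  have hb : C.bar (C.bar ν)⁻¹ = ν⁻¹ := by rw [map_inv₀, C.bar_bar]
  have ew : C.bar (C.bar ν)⁻¹ • (L.1.1 *ᵥ (-α • B.swap.a)) = -(α / C.bar β) • B.swap.a := by
    rw [hLw _ hmem, hb, C.form_smul_left, B.swap.aa, smul_smul, ← add_smul]
    congr 1
    field_simp
    linear_combination (-α) * hbar
  have et : (C.bar ν)⁻¹ * C.bar (C.bar ν)⁻¹ * β = (C.bar β)⁻¹ := by
    rw [hb]
    field_simp
    have hn : β * C.bar β = ν * C.bar ν :=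
      mul_left_cancel₀ (mul_ne_zero hν hνb) (by linear_combination (C.bar β * C.bar ν) * hβ + (C.bar ν * C.bar ν) * hbar)
    linear_combination hn
  refine ⟨L * B.flip, by rw [← et]; have h3 := h2; rw [ew] at h3; rwa [C.form_smul_left, C.form_smul_right, B.swap.aa, mul_one] at h3, ?_⟩
  rw [show L * B.flip * B.ev α β h * (L * B.flip)⁻¹ = L * (B.flip * B.ev α β h * B.flip⁻¹) * L⁻¹ by group, hW]
  exact hc.trans (B.swap.P.eich_congr ew et)

/-- the transvection subgroup contains an element exchanging the two isotropic lines of the pair -/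
theorem Frame.exists_swapper {G : Subgroup ↥(Cfsg.SU 3 F q)} {s t : F} (hs0 : s ≠ 0) (ht0 : t ≠ 0)
    {hs : s + C.bar s + 0 * C.bar (0 : F) = 0} {ht : t + C.bar t + 0 * C.bar (0 : F) = 0}
    (hS : B.ev 0 s hs ∈ G) (hT : B.swap.ev 0 t ht ∈ G) :
    ∃ X ∈ G, ∃ c : F, c ≠ 0 ∧ C.bar c = -c ∧ X.1.1 *ᵥ B.P.f = c • B.P.e ∧ X.1.1 *ᵥ B.a = B.a := by
  classical
  obtain ⟨p, hpc⟩ := CharP.exists F
  haveI : Fact p.Prime := ⟨CharP.char_is_prime F p⟩
  have hdot : ∀ w x : Fin 3 → F, (fun j => C.bar (w j)) ⬝ᵥ x = C.form x w := fun w x => by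
    simp [dotProduct, UCtx.form, mul_comm]
  have hRE : planeR (fun j => C.bar (B.P.f j)) (fun j => C.bar (B.P.e j)) * planeE B.P.e B.P.f = 1 :=
    planeR_mul_E (by rw [hdot, B.P.ef]) (by rw [hdot, B.P.ff]) (by rw [hdot, B.P.ee]) (by rw [hdot, B.P.fe])
  set Φ : ↥(Cfsg.SU 3 F q) →* GL (Fin 3) F :=
    (Matrix.SpecialLinearGroup.toGL).comp (Cfsg.SU 3 F q).subtype
  obtain ⟨g, hg, hg11⟩ := exists_swap p hs0 ht0
  have hle : Subgroup.closure ({trA s, loA t} : Set (SL2F F)) ≤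
      (G.map Φ).comap (planeHom (RingHom.id F) hRE) := by
    rw [Subgroup.closure_le]
    rintro A (rfl | rfl)
    · refine ⟨_, hS, CfsgLib.Perm.Trans.gl_ext_vec fun x => ?_⟩
      rw [planeHom_trA, hdot]
      show (B.ev 0 s hs).1.1 *ᵥ x = _
      conv_lhs => rw [B.decomp x, B.ev_cv]
      conv_rhs => enter [1]; rw [B.decomp x]
      simp only [RingHom.id_apply, map_zero, map_one, zero_mul, mul_one, mul_zero, zero_add, add_zero,
        sub_zero, Frame.cv]
      module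
    · refine ⟨_, hT, CfsgLib.Perm.Trans.gl_ext_vec fun x => ?_⟩
      rw [planeHom_loA, hdot]
      show (B.swap.ev 0 t ht).1.1 *ᵥ x = _
      conv_lhs => rw [B.decomp x, B.ev_swap_cv]
      conv_rhs => enter [1]; rw [B.decomp x]
      simp only [RingHom.id_apply, map_zero, map_one, zero_mul, mul_one, mul_zero, zero_add, add_zero,
        sub_zero, Frame.cv]
      module
  obtain ⟨X, hX, hXg⟩ := hle hg
  have hval : ∀ x, X.1.1 *ᵥ x = x + ((g.1 0 0 - 1) * C.form x B.P.f + g.1 0 1 * C.form x B.P.e) • B.P.e +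
      (g.1 1 0 * C.form x B.P.f + (g.1 1 1 - 1) * C.form x B.P.e) • B.P.f := fun x => by
    show (Φ X : Matrix (Fin 3) (Fin 3) F) *ᵥ x = _
    rw [hXg, planeHom_mulVec, hdot, hdot]
    simp only [RingHom.id_apply]
  have hf : X.1.1 *ᵥ B.P.f = g.1 0 1 • B.P.e := by
    rw [hval, B.P.ff, B.P.fe, hg11]; module
  have ha : X.1.1 *ᵥ B.a = B.a := by
    rw [hval, B.mem.1, B.mem.2]; simp
  have hdet : g.1 0 1 * g.1 1 0 = -1 := by
    have := g.2; rw [det_fin_two, hg11] at this; linear_combination -this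
  have h1 := C.form_su X B.P.f B.P.e
  rw [hf, hval B.P.e, B.P.fe, C.form_smul_left, C.form_add_right, C.form_add_right, C.form_smul_right,
    C.form_smul_right, B.P.ee, B.P.ef, mul_one, mul_zero, add_zero] at h1
  have hc0 : g.1 0 1 ≠ 0 := fun h0 => by rw [h0, zero_mul] at hdet; exact one_ne_zero (by linear_combination hdet)
  refine ⟨X, hX, g.1 0 1, hc0, ?_, hf, ha⟩
  have h2 := congrArg C.bar hdet
  simp only [map_mul, map_neg, map_one] at h2
  simp only [mul_one, mul_zero, add_zero, zero_add] at h1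
  linear_combination -(C.bar (g.1 0 1)) * h1 + g.1 0 1 * h2

/-- what the basic pair generates -/
theorem Frame.pair_facts {α β : F} {h : β + C.bar β + α * C.bar α = 0}
    {h' : (C.bar β)⁻¹ + C.bar (C.bar β)⁻¹ + -(α / C.bar β) * C.bar (-(α / C.bar β)) = 0}
    (hβ : β ≠ 0) {G : Subgroup ↥(Cfsg.SU 3 F q)} (hu : B.ev α β h ∈ G)
    (hv : B.swap.ev (-(α / C.bar β)) (C.bar β)⁻¹ h' ∈ G) :
    ∃ (M : ↥(Cfsg.SU 3 F q)) (ρ : F), M ∈ G ∧ M.1.1 *ᵥ B.P.e = (C.bar β)⁻¹ • B.P.f ∧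
      M.1.1 *ᵥ B.a = (-(C.bar β / β)) • B.a + ρ • B.P.f ∧
      ∃ δ h'', B.ev (α * (β / C.bar β) ^ 2) δ h'' ∈ G := by
  have hbb : C.bar β ≠ 0 := (map_ne_zero_iff _ C.bar.injective).2 hβ
  set u := B.ev α β h with hudef
  set v := B.swap.ev (-(α / C.bar β)) (C.bar β)⁻¹ h' with hvdef
  set M := u * v * u
  have hM : M ∈ G := G.mul_mem (G.mul_mem hu hv) hu
  have hbv : C.bar (-(α / C.bar β)) = -(C.bar α / β) := by rw [map_neg, map_div₀, C.bar_bar]
  have hMe : M.1.1 *ᵥ B.P.e = (C.bar β)⁻¹ • B.P.f := by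
    rw [suMat_mulVec_mul, suMat_mulVec_mul, B.ev_e, ← B.cv_e, B.ev_swap_cv, B.ev_cv, ← B.cv_f, hbv]
    rw [Frame.cv, Frame.cv]
    match_scalars
    · field_simp
      linear_combination h
    · field_simp
      ring
    · field_simp
      ring
  set ρ := C.bar α / β - C.bar α / C.bar β
  have hMa : M.1.1 *ᵥ B.a = (-(C.bar β / β)) • B.a + ρ • B.P.f := by
    rw [suMat_mulVec_mul, suMat_mulVec_mul, ← B.cv_a, B.ev_cv, B.ev_swap_cv, B.ev_cv, hbv, ← B.cv_f]
    rw [Frame.cv, Frame.cv, Frame.cv]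
    match_scalars
    · field_simp
      linear_combination (-(C.bar α) * β) * h
    · field_simp
      linear_combination (C.bar β) * h
    · simp only [ρ]
      field_simp
      ring
  refine ⟨M, ρ, hM, hMe, hMa, ?_⟩
  have hMf : B.P.f = C.bar β • (M.1.1 *ᵥ B.P.e) := by rw [hMe, smul_inv_smul₀ hbb]
  have hMie : (M⁻¹).1.1 *ᵥ B.P.f = C.bar β • B.P.e := by
    conv_lhs => rw [hMf]
    rw [Matrix.mulVec_smul, su_inv_mulVec]
  have he1 : (M⁻¹ * v * M).1.1 *ᵥ B.P.e = B.P.e := by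
    rw [suMat_mulVec_mul, suMat_mulVec_mul, hMe, Matrix.mulVec_smul, ← B.cv_f, B.ev_swap_cv,
      Matrix.mulVec_smul]
    simp only [mul_zero, add_zero, sub_zero]
    rw [B.cv_f, hMie, inv_smul_smul₀ hbb]
  have ha1 : (M⁻¹ * v * M).1.1 *ᵥ B.a = B.a - C.bar (α * (β / C.bar β) ^ 2) • B.P.e := by
    have hva : v.1.1 *ᵥ (M.1.1 *ᵥ B.a) = M.1.1 *ᵥ B.a + (C.bar α / β * -(C.bar β / β)) • B.P.f := by
      rw [hMa, show (-(C.bar β / β)) • B.a + ρ • B.P.f = B.cv 0 (-(C.bar β / β)) ρ by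
        rw [Frame.cv]; module, B.ev_swap_cv, hbv, Frame.cv, Frame.cv]
      module
    rw [suMat_mulVec_mul, suMat_mulVec_mul, hva, Matrix.mulVec_add, Matrix.mulVec_smul, su_inv_mulVec,
      hMie, smul_smul, map_mul, map_pow, map_div₀, C.bar_bar, sub_eq_add_neg, ← neg_smul]
    congr 2
    field_simp
  obtain ⟨δ, h'', hU⟩ := B.eq_ev he1 ha1
  exact ⟨δ, h'', hU ▸ G.mul_mem (G.mul_mem (G.inv_mem hM) hv) hM⟩

omit [Fintype F] in
theorem exists_natCast_of_pow_eq (q : ℕ) [Fact q.Prime] [CharP F q] {x : F} (hx : x ^ q = x) :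
    ∃ n : ℕ, (n : F) = x := by
  have h := (Subfield.mem_bot_iff_pow_eq_self (F := F) q).2 hx
  rw [← ZMod.fieldRange_castHom_eq_bot q] at h
  obtain ⟨z, rfl⟩ := h
  exact ⟨z.val, by simp⟩

/-- the main construction -/
theorem Frame.two_conj (hF : Fintype.card F = q ^ 2) (hq : 3 ≤ q) {μ : F}
    (hμ : μ * C.bar μ = 1) (h12 : μ ^ 12 ≠ 1)
    (hgen : Subring.closure ({μ ^ 9} : Set F) = ⊤ ∨ q.Prime) :
    ∃ α β h, α ≠ 0 ∧ ∃ g : ↥(Cfsg.SU 3 F q),
      Subgroup.closure ({B.ev α β h, g * B.ev α β h * g⁻¹} : Set ↥(Cfsg.SU 3 F q)) = ⊤ := by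
  classical
  have hμ0 : μ ≠ 0 := fun h0 => by rw [h0, zero_mul] at hμ; exact zero_ne_one hμ
  have hμb : C.bar μ = μ⁻¹ := eq_inv_of_mul_eq_one_right hμ
  set ν := 1 + C.bar μ with hνdef
  have hνb : C.bar ν = μ * ν := by
    rw [hνdef, map_add, map_one, C.bar_bar, mul_add, mul_one, hμ, add_comm]
  have hν : ν ≠ 0 := fun h0 => h12 (by
    have : μ = -1 := by linear_combination μ * h0 - hμ
    rw [this]; ring)
  set β := ν * μ ^ 2 with hβdef
  have hβ0 : β ≠ 0 := mul_ne_zero hν (pow_ne_zero _ hμ0)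
  have hβν : β * ν = C.bar ν * C.bar ν := by rw [hνb, hβdef]; ring
  have hβb : C.bar β = ν / μ := by
    rw [hβdef, map_mul, map_pow, hνb, hμb]; field_simp
  have hz : β / C.bar β = μ ^ 3 := by
    rw [hβb, hβdef]; field_simp
  obtain ⟨α, hα⟩ := C.exists_norm (c := -(β + C.bar β)) (by
    rw [map_neg, map_add, C.bar_bar, add_comm])
  have h : β + C.bar β + α * C.bar α = 0 := by rw [hα]; ring
  have hsum : β + C.bar β ≠ 0 := fun h0 => h12 (by
    have h3 : μ ^ 3 = -1 := by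
      rw [← hz, show C.bar β = -β by linear_combination h0, div_neg, div_self hβ0]
    rw [show μ ^ 12 = (μ ^ 3) ^ 4 by ring, h3]; ring)
  have hα0 : α ≠ 0 := fun h0 => hsum (by rw [h0, zero_mul, add_zero] at h; exact h)
  obtain ⟨g, h', hg⟩ := B.exists_conj h hν hβν
  refine ⟨α, β, h, hα0, g, ?_⟩
  set G := Subgroup.closure ({B.ev α β h, g * B.ev α β h * g⁻¹} : Set ↥(Cfsg.SU 3 F q))
  have hu : B.ev α β h ∈ G := Subgroup.subset_closure (Set.mem_insert _ _)
  have hv : B.swap.ev (-(α / C.bar β)) (C.bar β)⁻¹ h' ∈ G :=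
    hg ▸ Subgroup.subset_closure (Set.mem_insert_of_mem _ rfl)
  have hbb : C.bar β ≠ 0 := (map_ne_zero_iff _ C.bar.injective).2 hβ0
  have hve : ∀ c : F, (B.swap.ev (-(α / C.bar β)) (C.bar β)⁻¹ h').1.1 *ᵥ B.P.e ≠ c • B.P.e := by
    intro c hc
    rw [← B.cv_e, B.ev_swap_cv, show c • B.cv 1 0 0 = B.cv c 0 0 by rw [Frame.cv, Frame.cv]; module] at hc
    have := (B.cv_inj hc).2.2
    simp [hbb] at this
  obtain ⟨M, ρ, hM, hMe, hMa, δ, h2, hU⟩ := B.pair_facts hβ0 hu hv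
  rw [hz, ← pow_mul] at h2
  have hθ : C.bar (μ ^ (3 * 2)) ≠ μ ^ (3 * 2) := fun e => h12 (by
    rw [map_pow, hμb, inv_pow] at e
    have e' : μ ^ (3 * 2) * μ ^ (3 * 2) = 1 := by
      conv_lhs => arg 1; rw [← e]
      exact inv_mul_cancel₀ (pow_ne_zero _ hμ0)
    rw [← e', ← pow_add])
  -- a transvection
  have hU' : ∃ δ h, B.ev (α * μ ^ (3 * 2)) δ h ∈ G := ⟨δ, h2, by
    have e : B.ev (α * μ ^ (3 * 2)) δ h2 = B.ev (α * (β / C.bar β) ^ 2) δ (by rwa [hz, ← pow_mul]) :=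
      B.ev_congr (by rw [hz, ← pow_mul]) rfl
    exact e ▸ hU⟩
  rcases hgen with hgen | hprime
  · obtain ⟨δ, h2, hU⟩ := hU'
    generalize μ ^ (3 * 2) = θ at hθ h2 hU
    obtain ⟨_, e1⟩ := B.ev_mul h h2
    obtain ⟨_, e2⟩ := B.ev_mul h2 h
    set s := α * C.bar α * (C.bar θ - θ) with hsdef
    have hs : s + C.bar s + 0 * C.bar (0 : F) = 0 := by
      rw [hsdef]; simp only [map_mul, map_sub, C.bar_bar]; ring
    have hs0 : s ≠ 0 := mul_ne_zero (mul_ne_zero hα0 ((map_ne_zero_iff _ C.bar.injective).2 hα0))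
      (sub_ne_zero.2 hθ)
    have hS : B.ev 0 s hs ∈ G := by
      obtain ⟨_, e3⟩ := B.ev_mul hs ((by
        simp only [map_sub, map_add, map_mul, C.bar_bar] at h2 ⊢
        linear_combination h + h2 : (δ + β - α * C.bar (α * θ)) + C.bar (δ + β - α * C.bar (α * θ)) +
          (α * θ + α) * C.bar (α * θ + α) = 0))
      have key : B.ev 0 s hs = B.ev α β h * B.ev (α * θ) δ h2 *
          (B.ev (α * θ) δ h2 * B.ev α β h)⁻¹ := by
        rw [eq_mul_inv_iff_mul_eq, e2, e1, e3]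
        refine B.ev_congr (by ring) ?_
        simp only [hsdef, map_zero, map_mul, mul_zero, sub_zero]
        ring
      exact key ▸ G.mul_mem (G.mul_mem hu hU) (G.inv_mem (G.mul_mem hU hu))
    set t := s * ((C.bar β)⁻¹ * C.bar (C.bar β)⁻¹)
    have ht : t + C.bar t + 0 * C.bar (0 : F) = 0 := by
      simp only [t, map_mul, map_inv₀, C.bar_bar]
      linear_combination ((C.bar β)⁻¹ * β⁻¹) * hs
    have ht0 : t ≠ 0 := mul_ne_zero hs0 (mul_ne_zero (inv_ne_zero hbb)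
      ((map_ne_zero_iff _ C.bar.injective).2 (inv_ne_zero hbb)))
    have hT : B.swap.ev 0 t ht ∈ G := by
      refine (show B.swap.ev 0 t ht = M * B.ev 0 s hs * M⁻¹ from ?_) ▸
        G.mul_mem (G.mul_mem hM hS) (G.inv_mem hM)
      rw [eq_mul_inv_iff_mul_eq]
      refine B.ext_su ?_ ?_ ?_
      · rw [suMat_mulVec_mul, suMat_mulVec_mul, B.ev_e, hMe, Matrix.mulVec_smul,
          show B.P.f = B.swap.P.e from rfl, B.swap.ev_e]
      · rw [suMat_mulVec_mul, suMat_mulVec_mul, B.ev_a, hMa, Matrix.mulVec_add, Matrix.mulVec_smul,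
          Matrix.mulVec_smul, show B.P.f = B.swap.P.e from rfl, B.swap.ev_e,
          show B.a = B.swap.a from rfl, B.swap.ev_a, Matrix.mulVec_sub, Matrix.mulVec_smul,
          show B.swap.a = B.a from rfl, hMa, map_zero, zero_smul, zero_smul, sub_zero, sub_zero]
        rfl
      · have h3 : C.form (M.1.1 *ᵥ B.P.f) B.P.f = C.bar (C.bar β) := by
          have h4 := C.form_su M B.P.f B.P.e
          rw [hMe, C.form_smul_right, B.P.fe, map_inv₀] at h4
          exact ((inv_mul_eq_one₀ ((map_ne_zero_iff _ C.bar.injective).2 hbb)).1 h4).symm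
        rw [suMat_mulVec_mul, suMat_mulVec_mul]
        conv_lhs => rw [B.decomp (M.1.1 *ᵥ B.P.f), B.ev_swap_cv, h3]
        conv_rhs => rw [← B.cv_f, B.ev_cv]
        rw [Frame.cv, Frame.cv, map_zero]
        simp only [zero_mul, mul_zero, add_zero, sub_zero, zero_smul, mul_one, one_smul, zero_add,
          Matrix.mulVec_add, Matrix.mulVec_smul, hMe, smul_smul]
        conv_rhs => arg 2; rw [B.decomp (M.1.1 *ᵥ B.P.f), h3, Frame.cv]
        simp only [t, map_inv₀, C.bar_bar]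
        match_scalars <;> field_simp <;> ring
    obtain ⟨X, hX, c, hc0, hcb, hXf, hXa⟩ := B.exists_swapper hs0 ht0 hS hT
    refine B.top_of_borel hF hq hα0 hu hv hve (G.mul_mem hX hM) (l := (C.bar β)⁻¹ * c)
      (k := -(C.bar β / β)) (r := ρ * c) (mul_ne_zero (inv_ne_zero hbb) hc0) ?_ ?_ ?_
    · rw [suMat_mulVec_mul, hMe, Matrix.mulVec_smul, hXf, smul_smul]
    · rw [suMat_mulVec_mul, hMa, Matrix.mulVec_add, Matrix.mulVec_smul, Matrix.mulVec_smul, hXf, hXa,
        smul_smul]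
    -- the multiplier generates
    set m := C.bar ((C.bar β)⁻¹ * c) * -(C.bar β / β) with hm
    set S := Subring.closure ({m} : Set F)
    have hmS : m ∈ S := Subring.subset_closure rfl
    have hm0 : m ≠ 0 := mul_ne_zero
      ((map_ne_zero_iff _ C.bar.injective).2 (mul_ne_zero (inv_ne_zero hbb) hc0))
      (neg_ne_zero.2 (div_ne_zero hbb hβ0))
    have hbm : C.bar m ∈ S := C.bar_eq m ▸ pow_mem hmS q
    have hinv : m⁻¹ ∈ S := by
      have h1 := FiniteField.pow_card_sub_one_eq_one m hm0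
      rw [show m⁻¹ = m ^ (Fintype.card F - 2) from inv_eq_of_mul_eq_one_right (by
        rw [← pow_succ', show Fintype.card F - 2 + 1 = Fintype.card F - 1 by
          have := Fintype.one_lt_card (α := F); omega, h1])]
      exact pow_mem hmS _
    have he : μ ^ 9 = -(C.bar m * m⁻¹) := by
      rw [show μ ^ 9 = (β / C.bar β) ^ 3 by rw [hz, ← pow_mul], hm]
      simp only [map_mul, map_neg, map_div₀, map_inv₀, C.bar_bar, hcb]
      field_simp
    refine eq_top_iff.2 (hgen ▸ Subring.closure_le.2 ?_)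
    rintro _ rfl
    rw [SetLike.mem_coe, he]
    exact neg_mem (mul_mem hbm hinv)
  · haveI : Fact q.Prime := ⟨hprime⟩
    haveI hqc : CharP F q := by
      obtain ⟨p, hpc⟩ := CharP.exists F
      obtain ⟨k, hp, hk⟩ := FiniteField.card F p
      have hd : p ∣ q ^ 2 := hF ▸ hk ▸ dvd_pow_self p k.ne_zero
      obtain rfl := (Nat.prime_dvd_prime_iff_eq hp hprime).1 (hp.dvd_of_dvd_pow hd)
      exact hpc
    refine B.top_of_ev hF hq hv hve fun γ => ?_
    set θ := μ ^ (3 * 2)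
    obtain ⟨a, b, ha, hb, hab⟩ := C.exists_decomp hθ (γ / α)
    have hfix : ∀ x : F, C.bar x = x → ∃ n : ℕ, x = n := fun x hx => by
      rw [C.bar_eq] at hx
      obtain ⟨n, hn⟩ := exists_natCast_of_pow_eq q hx
      exact ⟨n, hn.symm⟩
    have hmem : γ ∈ B.coords G := by
      obtain ⟨i, rfl⟩ := hfix a ha
      obtain ⟨j, rfl⟩ := hfix b hb
      have e : γ = i • α + j • (α * θ) := by
        rw [nsmul_eq_mul, nsmul_eq_mul]
        rw [div_eq_iff hα0] at hab
        linear_combination hab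
      rw [e]
      exact add_mem (nsmul_mem (show α ∈ B.coords G from ⟨β, h, hu⟩) _) (nsmul_mem (show α * θ ∈ B.coords G from hU') _)
    exact hmem

end CfsgLib.RegUnip.SU
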