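import Cfsg.Agent.Lib.RegUnip.SU.Pair
import Cfsg.Agent.Lib.RegUnip.Params

/-!
Auxiliary facts for the small fields: field generators with known conjugates, and the letters of a word.
-/

set_option autoImplicit false

namespace CfsgLib.RegUnip.SU

open Matrix CfsgLib.SU

variable {F : Type*} [Field F] {q : ℕ} {C : UCtx F q} (B : Frame C)

theorem cv_congr {x y z x' y' z' : F} (h1 : x = x') (h2 : y = y') (h3 : z = z') :
    B.cv x y z = B.cv x' y' z' := by rw [h1, h2, h3]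

theorem Frame.ev_inv_mem {G : Subgroup ↥(Cfsg.SU 3 F q)} {α β : F}
    {h : β + C.bar β + α * C.bar α = 0} (hu : B.ev α β h ∈ G)
    (hi : C.bar β + C.bar (C.bar β) + -α * C.bar (-α) = 0) : B.ev (-α) (C.bar β) hi ∈ G := by
  obtain ⟨_, he⟩ := B.ev_inv h
  exact he ▸ G.inv_mem hu

theorem Frame.ev_inv_mem' {G : Subgroup ↥(Cfsg.SU 3 F q)} {α β : F}
    {h : β + C.bar β + -α * C.bar (-α) = 0} (hu : B.ev (-α) β h ∈ G)
    (hi : C.bar β + C.bar (C.bar β) + α * C.bar α = 0) : B.ev α (C.bar β) hi ∈ G := by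
  obtain ⟨hn, he⟩ := B.ev_inv h
  have h1 : B.ev (- -α) (C.bar β) hn ∈ G := he ▸ G.inv_mem hu
  rwa [B.ev_congr (h' := hi) (neg_neg α) rfl] at h1

theorem Frame.flip_mem {G : Subgroup ↥(Cfsg.SU 3 F q)} {α β : F}
    (h : β + C.bar β + α * C.bar α = 0) (hv : β + C.bar β + -α * C.bar (-α) = 0)
    (hm : B.flip * B.ev α β h * B.flip⁻¹ ∈ G) : B.swap.ev (-α) β hv ∈ G := by
  obtain ⟨_, he⟩ := B.flip_conj α β h
  exact he ▸ hm

theorem Frame.conj_flip_mem {G : Subgroup ↥(Cfsg.SU 3 F q)} {α β c d : F}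
    (h : β + C.bar β + α * C.bar α = 0) (hv : β + C.bar β + -α * C.bar (-α) = 0)
    {hE : d + C.bar d + c * C.bar c = 0}
    (hEi : C.bar d + C.bar (C.bar d) + -c * C.bar (-c) = 0)
    (hm : B.ev c d hE * B.flip * B.ev α β h * (B.ev c d hE * B.flip)⁻¹ ∈ G) :
    B.ev c d hE * B.swap.ev (-α) β hv * B.ev (-c) (C.bar d) hEi ∈ G := by
  obtain ⟨_, he⟩ := B.flip_conj α β h
  obtain ⟨_, he'⟩ := B.ev_inv hE
  rw [← he, ← he']
  rwa [show B.ev c d hE * (B.flip * B.ev α β h * B.flip⁻¹) * (B.ev c d hE)⁻¹ =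
    B.ev c d hE * B.flip * B.ev α β h * (B.ev c d hE * B.flip)⁻¹ by group]

theorem Frame.swap_not_fix {α β : F} (hv : β + C.bar β + α * C.bar α = 0) (hβ : β ≠ 0) (c : F) :
    (B.swap.ev α β hv).1.1 *ᵥ B.P.e ≠ c • B.P.e := by
  intro hc
  rw [← B.cv_e, B.ev_swap_cv, show c • B.cv 1 0 0 = B.cv c 0 0 by rw [Frame.cv, Frame.cv]; module] at hc
  have := (B.cv_inj hc).2.2
  simp [hβ] at this

theorem Frame.not_fix_of_step {α β c d : F} (hE : d + C.bar d + c * C.bar c = 0)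
    (hv : β + C.bar β + α * C.bar α = 0)
    (hEi : C.bar d + C.bar (C.bar d) + -c * C.bar (-c) = 0) (hβ : β ≠ 0) (k : F) :
    (B.ev c d hE * B.swap.ev α β hv * B.ev (-c) (C.bar d) hEi).1.1 *ᵥ B.P.e ≠ k • B.P.e := by
  intro hk
  rw [suMat_mulVec_mul, suMat_mulVec_mul, B.ev_e, ← B.cv_e, B.ev_swap_cv, B.ev_cv,
    show k • B.cv 1 0 0 = B.cv k 0 0 by rw [Frame.cv, Frame.cv]; module] at hk
  have := (B.cv_inj hk).2.2
  simp [hβ] at this

variable [Fintype F]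

omit B in
/-- a square root of a non-square of the prime field -/
theorem root_quadratic (C : UCtx F q) [Fact q.Prime] (hF : Fintype.card F = q ^ 2) (hq : q % 2 = 1)
    (c : ℤ) (hc : ((c : ZMod q)) ^ (q / 2) = -1) :
    (q : F) = 0 ∧ ∃ ε : F, ε ^ 2 = c ∧ C.bar ε = -ε ∧ Subring.closure ({ε} : Set F) = ⊤ := by
  haveI hpc : CharP F q := by
    obtain ⟨p, hp'⟩ := CharP.exists F
    obtain ⟨k, hp, hk⟩ := FiniteField.card F p
    obtain rfl := (Nat.prime_dvd_prime_iff_eq hp Fact.out).1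
      (hp.dvd_of_dvd_pow (hF ▸ hk ▸ dvd_pow_self p k.ne_zero : p ∣ q ^ 2))
    exact hp'
  have hcF : ((c : F)) ^ (q / 2) = -1 := by
    have h := congrArg (ZMod.castHom (dvd_refl q) F) hc
    simpa [map_intCast] using h
  have hc0 : (c : F) ≠ 0 := fun h0 => by
    have h3 : q / 2 ≠ 0 := by have := (Fact.out : q.Prime).two_le; omega
    rw [h0, zero_pow h3] at hcF
    exact one_ne_zero (by linear_combination hcF)
  have hchar : ringChar F ≠ 2 := by
    rw [ringChar.eq F q]; omega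
  obtain ⟨ε, hε⟩ := (FiniteField.isSquare_iff hchar hc0).2 (by
    rw [hF, show q ^ 2 / 2 = q / 2 * (q + 1) by
      obtain ⟨m, rfl⟩ : ∃ m, q = 2 * m + 1 := ⟨q / 2, by omega⟩
      rw [show (2 * m + 1) / 2 = m by omega, show (2 * m + 1) ^ 2 = 2 * (m * (2 * m + 1 + 1)) + 1 by ring]
      omega, pow_mul, hcF]
    exact Even.neg_one_pow (by rw [Nat.even_iff]; omega))
  have hε2 : ε ^ 2 = (c : F) := by rw [hε, sq]
  have hpow : ε ^ (q - 1) = -1 := by
    rw [show q - 1 = 2 * (q / 2) by omega, pow_mul, hε2, hcF]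
  have hbε : C.bar ε = -ε := by
    rw [C.bar_eq, show q = q - 1 + 1 by omega, pow_succ, hpow, neg_one_mul]
  refine ⟨CharP.cast_eq_zero F q, ε, hε2, hbε, CfsgLib.SLGen.closure_eq_top hF ?_ fun i hi0 hi2 => ?_⟩
  · intro h0; rw [h0, zero_pow (by omega)] at hε2; exact hc0 hε2.symm
  · obtain rfl : i = 1 := by omega
    rw [pow_one, hpow]
    intro h
    exact Ring.neg_one_ne_one_of_char_ne_two hchar h

omit B in
theorem root_three (C : UCtx F 3) (hF : Fintype.card F = 3 ^ 2) :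
    (3 : F) = 0 ∧ ∃ ε : F, ε ^ 2 = -1 ∧ C.bar ε = -ε ∧ Subring.closure ({ε} : Set F) = ⊤ := by
  haveI : Fact (Nat.Prime 3) := ⟨Nat.prime_three⟩
  simpa using root_quadratic C hF (by norm_num) (-1)
    (show (((-1) : ℤ) : ZMod 3) ^ (3 / 2) = -1 by rfl)

omit B in
theorem root_five (C : UCtx F 5) (hF : Fintype.card F = 5 ^ 2) :
    (5 : F) = 0 ∧ ∃ ε : F, ε ^ 2 = 2 ∧ C.bar ε = -ε ∧ Subring.closure ({ε} : Set F) = ⊤ := by
  haveI : Fact (Nat.Prime 5) := ⟨by norm_num⟩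
  simpa using root_quadratic C hF (by norm_num) 2
    (show ((2 : ℤ) : ZMod 5) ^ (5 / 2) = -1 by rfl)

omit B in
theorem root_eleven (C : UCtx F 11) (hF : Fintype.card F = 11 ^ 2) :
    (11 : F) = 0 ∧ ∃ ε : F, ε ^ 2 = -1 ∧ C.bar ε = -ε ∧ Subring.closure ({ε} : Set F) = ⊤ := by
  haveI : Fact (Nat.Prime 11) := ⟨by norm_num⟩
  simpa using root_quadratic C hF (by norm_num) (-1)
    (show (((-1) : ℤ) : ZMod 11) ^ (11 / 2) = -1 by rfl)

omit B in
theorem root_eight (C : UCtx F 8) (hF : Fintype.card F = 8 ^ 2) :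
    (2 : F) = 0 ∧ ∃ ε : F, ε ^ 6 = -ε ^ 3 - 1 ∧ C.bar ε = ε ^ 8 ∧
      Subring.closure ({ε} : Set F) = ⊤ := by
  haveI : Fact (Nat.Prime 2) := ⟨Nat.prime_two⟩
  haveI : CharP F 2 := by
    obtain ⟨p, hp'⟩ := CharP.exists F
    obtain ⟨k, hp, hk⟩ := FiniteField.card F p
    obtain rfl := (Nat.prime_dvd_prime_iff_eq hp Nat.prime_two).1
      (hp.dvd_of_dvd_pow (n := 6) (by
        rw [show (2 : ℕ) ^ 6 = 8 ^ 2 by norm_num, ← hF, hk]; exact dvd_pow_self p k.ne_zero))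
    exact hp'
  obtain ⟨g, hg0, -, hord⟩ := exists_closure_eq_top (F := F)
  rw [hF] at hord
  have ho : orderOf (g ^ 7) = 9 := by
    rw [orderOf_pow' _ (by norm_num : 7 ≠ 0), hord]; norm_num
  set ε := g ^ 7
  have h9 : ε ^ 9 = 1 := ho ▸ pow_orderOf_eq_one ε
  have h3 : ε ^ 3 ≠ 1 := fun h => by
    have := Nat.le_of_dvd (by norm_num) (orderOf_dvd_of_pow_eq_one h)
    omega
  refine ⟨CharTwo.two_eq_zero, ε, ?_, C.bar_eq ε, ?_⟩
  · have h : (ε ^ 3 - 1) * (ε ^ 6 + ε ^ 3 + 1) = 0 := by linear_combination h9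
    linear_combination (mul_eq_zero.1 h).resolve_left (sub_ne_zero.2 h3)
  · refine CfsgLib.SLGen.closure_eq_top (p := 2) (f := 6) (by rw [hF]; norm_num) (pow_ne_zero _ hg0)
      fun i hi0 hi6 h => ?_
    have hd := orderOf_dvd_of_pow_eq_one h
    rw [ho] at hd
    interval_cases i <;> norm_num at hd

end CfsgLib.RegUnip.SU
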