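import Cfsg.Agent.Lib.RegUnip.SU.Small

/-!
Certificates for `SU_3(q)`, `q = 3, 5, 8, 11`: a word fixing the isotropic line, with a generating multiplier.
Each evaluation step is an identity of polynomials in the chosen field generator.
-/

set_option autoImplicit false
set_option linter.unusedSimpArgs false
set_option linter.unusedVariables false
set_option linter.unusedSectionVars false

namespace CfsgLib.RegUnip.SU

open Matrix CfsgLib.SU

variable {F : Type*} [Field F] [Fintype F]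

theorem two_conj_three {C : UCtx F 3} (B : Frame C) (hF : Fintype.card F = 3 ^ 2) :
    ∃ α β h, α ≠ 0 ∧ ∃ g : ↥(Cfsg.SU 3 F 3),
      Subgroup.closure ({B.ev α β h, g * B.ev α β h * g⁻¹} : Set ↥(Cfsg.SU 3 F 3)) = ⊤ := by
  classical
  obtain ⟨hp, ε, hε, hbε, hgen⟩ := root_three C hF
  have hbα : C.bar (1) = 1 := by
    (try simp only [map_add, map_mul, map_pow, map_one, map_zero, map_ofNat, hbε]) <;>
      linear_combination (0) * hε + (0) * hp
  have hbβ : C.bar (1 + 2 * ε) = 1 + ε := by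
    (try simp only [map_add, map_mul, map_pow, map_one, map_zero, map_ofNat, hbε]) <;>
      linear_combination (0) * hε + ((-1) * ε) * hp
  have h : (1 + 2 * ε : F) + C.bar (1 + 2 * ε) + (1) * C.bar (1) = 0 := by
    rw [hbα, hbβ]; linear_combination (0) * hε + (1 + ε) * hp
  have hi : C.bar (1 + 2 * ε) + C.bar (C.bar (1 + 2 * ε)) + (-(1)) * C.bar (-(1)) = 0 := by
    rw [C.bar_bar, map_neg]; linear_combination h
  have hv : (1 + 2 * ε : F) + C.bar (1 + 2 * ε) + (-(1)) * C.bar (-(1)) = 0 := by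
    rw [map_neg]; linear_combination h
  have hvi : C.bar (1 + 2 * ε) + C.bar (C.bar (1 + 2 * ε)) + (1) * C.bar (1) = 0 := by
    rw [C.bar_bar]; linear_combination h
  have hbc : C.bar (ε) = 2 * ε := by
    (try simp only [map_add, map_mul, map_pow, map_one, map_zero, map_ofNat, hbε]) <;>
      linear_combination (0) * hε + ((-1) * ε) * hp
  have hbd : C.bar (1) = 1 := by
    (try simp only [map_add, map_mul, map_pow, map_one, map_zero, map_ofNat, hbε]) <;>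
      linear_combination (0) * hε + (0) * hp
  have hE : (1 : F) + C.bar (1) + (ε) * C.bar (ε) = 0 := by
    rw [hbc, hbd]; linear_combination (2) * hε + (0) * hp
  have hEi : C.bar (1) + C.bar (C.bar (1)) + (-(ε)) * C.bar (-(ε)) = 0 := by
    rw [C.bar_bar, map_neg]; linear_combination hE
  have se0 : (B.ev (-(ε)) (C.bar (1)) hEi).1.1 *ᵥ B.cv (1) (0) (0) =
      B.cv (1) (0) (0) := by
    refine (B.ev_cv _ _ _ _ _ _).trans (cv_congr B ?_ ?_ ?_)
    · (try simp only [map_neg, map_one, map_zero, C.bar_bar, hbα, hbβ, hbc, hbd]) <;> linear_combination (0) * hε + (0) * hp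
    · (try simp only [map_neg, map_one, map_zero, C.bar_bar, hbα, hbβ, hbc, hbd]) <;> linear_combination (0) * hε + (0) * hp
    · (try simp only [map_neg, map_one, map_zero, C.bar_bar, hbα, hbβ, hbc, hbd]) <;> linear_combination (0) * hε + (0) * hp
  have se1 : (B.swap.ev (-(1)) (1 + 2 * ε) hv).1.1 *ᵥ B.cv (1) (0) (0) =
      B.cv (1) (2) (1 + 2 * ε) := by
    refine (B.ev_swap_cv _ _ _ _ _ _).trans (cv_congr B ?_ ?_ ?_)
    · (try simp only [map_neg, map_one, map_zero, C.bar_bar, hbα, hbβ, hbc, hbd]) <;> linear_combination (0) * hε + (0) * hp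
    · (try simp only [map_neg, map_one, map_zero, C.bar_bar, hbα, hbβ, hbc, hbd]) <;> linear_combination (0) * hε + ((-1)) * hp
    · (try simp only [map_neg, map_one, map_zero, C.bar_bar, hbα, hbβ, hbc, hbd]) <;> linear_combination (0) * hε + (0) * hp
  have se2 : (B.ev (ε) (1) hE).1.1 *ᵥ B.cv (1) (2) (1 + 2 * ε) =
      B.cv (2 + ε) (ε) (1 + 2 * ε) := by
    refine (B.ev_cv _ _ _ _ _ _).trans (cv_congr B ?_ ?_ ?_)
    · (try simp only [map_neg, map_one, map_zero, C.bar_bar, hbα, hbβ, hbc, hbd]) <;> linear_combination (0) * hε + ((-1) * ε) * hp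
    · (try simp only [map_neg, map_one, map_zero, C.bar_bar, hbα, hbβ, hbc, hbd]) <;> linear_combination (2) * hε + (0) * hp
    · (try simp only [map_neg, map_one, map_zero, C.bar_bar, hbα, hbβ, hbc, hbd]) <;> linear_combination (0) * hε + (0) * hp
  have se3 : (B.ev (1) (1 + 2 * ε) h).1.1 *ᵥ B.cv (2 + ε) (ε) (1 + 2 * ε) =
      B.cv (2 + ε) (1) (1 + 2 * ε) := by
    refine (B.ev_cv _ _ _ _ _ _).trans (cv_congr B ?_ ?_ ?_)
    · (try simp only [map_neg, map_one, map_zero, C.bar_bar, hbα, hbβ, hbc, hbd]) <;> linear_combination (4) * hε + ((-1) + ε) * hp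
    · (try simp only [map_neg, map_one, map_zero, C.bar_bar, hbα, hbβ, hbc, hbd]) <;> linear_combination (0) * hε + (ε) * hp
    · (try simp only [map_neg, map_one, map_zero, C.bar_bar, hbα, hbβ, hbc, hbd]) <;> linear_combination (0) * hε + (0) * hp
  have se4 : (B.ev (-(ε)) (C.bar (1)) hEi).1.1 *ᵥ B.cv (2 + ε) (1) (1 + 2 * ε) =
      B.cv (2 * ε) (2 * ε) (1 + 2 * ε) := by
    refine (B.ev_cv _ _ _ _ _ _).trans (cv_congr B ?_ ?_ ?_)
    · (try simp only [map_neg, map_one, map_zero, C.bar_bar, hbα, hbβ, hbc, hbd]) <;> linear_combination (0) * hε + (1 + ε) * hp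
    · (try simp only [map_neg, map_one, map_zero, C.bar_bar, hbα, hbβ, hbc, hbd]) <;> linear_combination ((-2)) * hε + (1 + (-1) * ε) * hp
    · (try simp only [map_neg, map_one, map_zero, C.bar_bar, hbα, hbβ, hbc, hbd]) <;> linear_combination (0) * hε + (0) * hp
  have se5 : (B.swap.ev (-(1)) (1 + 2 * ε) hv).1.1 *ᵥ B.cv (2 * ε) (2 * ε) (1 + 2 * ε) =
      B.cv (2 * ε) (0) (0) := by
    refine (B.ev_swap_cv _ _ _ _ _ _).trans (cv_congr B ?_ ?_ ?_)
    · (try simp only [map_neg, map_one, map_zero, C.bar_bar, hbα, hbβ, hbc, hbd]) <;> linear_combination (0) * hε + (0) * hp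
    · (try simp only [map_neg, map_one, map_zero, C.bar_bar, hbα, hbβ, hbc, hbd]) <;> linear_combination (0) * hε + (0) * hp
    · (try simp only [map_neg, map_one, map_zero, C.bar_bar, hbα, hbβ, hbc, hbd]) <;> linear_combination (4) * hε + ((-1) + 2 * ε) * hp
  have se6 : (B.ev (ε) (1) hE).1.1 *ᵥ B.cv (2 * ε) (0) (0) =
      B.cv (2 * ε) (0) (0) := by
    refine (B.ev_cv _ _ _ _ _ _).trans (cv_congr B ?_ ?_ ?_)
    · (try simp only [map_neg, map_one, map_zero, C.bar_bar, hbα, hbβ, hbc, hbd]) <;> linear_combination (0) * hε + (0) * hp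
    · (try simp only [map_neg, map_one, map_zero, C.bar_bar, hbα, hbβ, hbc, hbd]) <;> linear_combination (0) * hε + (0) * hp
    · (try simp only [map_neg, map_one, map_zero, C.bar_bar, hbα, hbβ, hbc, hbd]) <;> linear_combination (0) * hε + (0) * hp
  have sa0 : (B.ev (-(ε)) (C.bar (1)) hEi).1.1 *ᵥ B.cv (0) (1) (0) =
      B.cv (2 * ε) (1) (0) := by
    refine (B.ev_cv _ _ _ _ _ _).trans (cv_congr B ?_ ?_ ?_)
    · (try simp only [map_neg, map_one, map_zero, C.bar_bar, hbα, hbβ, hbc, hbd]) <;> linear_combination (0) * hε + (0) * hp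
    · (try simp only [map_neg, map_one, map_zero, C.bar_bar, hbα, hbβ, hbc, hbd]) <;> linear_combination (0) * hε + (0) * hp
    · (try simp only [map_neg, map_one, map_zero, C.bar_bar, hbα, hbβ, hbc, hbd]) <;> linear_combination (0) * hε + (0) * hp
  have sa1 : (B.swap.ev (-(1)) (1 + 2 * ε) hv).1.1 *ᵥ B.cv (2 * ε) (1) (0) =
      B.cv (2 * ε) (1 + ε) (2 * ε) := by
    refine (B.ev_swap_cv _ _ _ _ _ _).trans (cv_congr B ?_ ?_ ?_)
    · (try simp only [map_neg, map_one, map_zero, C.bar_bar, hbα, hbβ, hbc, hbd]) <;> linear_combination (0) * hε + (0) * hp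
    · (try simp only [map_neg, map_one, map_zero, C.bar_bar, hbα, hbβ, hbc, hbd]) <;> linear_combination (0) * hε + ((-1) * ε) * hp
    · (try simp only [map_neg, map_one, map_zero, C.bar_bar, hbα, hbβ, hbc, hbd]) <;> linear_combination (4) * hε + ((-1)) * hp
  have sa2 : (B.ev (ε) (1) hE).1.1 *ᵥ B.cv (2 * ε) (1 + ε) (2 * ε) =
      B.cv (2 + 2 * ε) (2 + ε) (2 * ε) := by
    refine (B.ev_cv _ _ _ _ _ _).trans (cv_congr B ?_ ?_ ?_)
    · (try simp only [map_neg, map_one, map_zero, C.bar_bar, hbα, hbβ, hbc, hbd]) <;> linear_combination ((-2)) * hε + (0) * hp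
    · (try simp only [map_neg, map_one, map_zero, C.bar_bar, hbα, hbβ, hbc, hbd]) <;> linear_combination (2) * hε + ((-1)) * hp
    · (try simp only [map_neg, map_one, map_zero, C.bar_bar, hbα, hbβ, hbc, hbd]) <;> linear_combination (0) * hε + (0) * hp
  have sa3 : (B.ev (1) (1 + 2 * ε) h).1.1 *ᵥ B.cv (2 + 2 * ε) (2 + ε) (2 * ε) =
      B.cv (2) (2) (2 * ε) := by
    refine (B.ev_cv _ _ _ _ _ _).trans (cv_congr B ?_ ?_ ?_)
    · (try simp only [map_neg, map_one, map_zero, C.bar_bar, hbα, hbβ, hbc, hbd]) <;> linear_combination (4) * hε + ((-2) + ε) * hp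
    · (try simp only [map_neg, map_one, map_zero, C.bar_bar, hbα, hbβ, hbc, hbd]) <;> linear_combination (0) * hε + (ε) * hp
    · (try simp only [map_neg, map_one, map_zero, C.bar_bar, hbα, hbβ, hbc, hbd]) <;> linear_combination (0) * hε + (0) * hp
  have sa4 : (B.ev (-(ε)) (C.bar (1)) hEi).1.1 *ᵥ B.cv (2) (2) (2 * ε) =
      B.cv (2) (1) (2 * ε) := by
    refine (B.ev_cv _ _ _ _ _ _).trans (cv_congr B ?_ ?_ ?_)
    · (try simp only [map_neg, map_one, map_zero, C.bar_bar, hbα, hbβ, hbc, hbd]) <;> linear_combination (0) * hε + (2 * ε) * hp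
    · (try simp only [map_neg, map_one, map_zero, C.bar_bar, hbα, hbβ, hbc, hbd]) <;> linear_combination ((-2)) * hε + (1) * hp
    · (try simp only [map_neg, map_one, map_zero, C.bar_bar, hbα, hbβ, hbc, hbd]) <;> linear_combination (0) * hε + (0) * hp
  have sa5 : (B.swap.ev (-(1)) (1 + 2 * ε) hv).1.1 *ᵥ B.cv (2) (1) (2 * ε) =
      B.cv (2) (2) (0) := by
    refine (B.ev_swap_cv _ _ _ _ _ _).trans (cv_congr B ?_ ?_ ?_)
    · (try simp only [map_neg, map_one, map_zero, C.bar_bar, hbα, hbβ, hbc, hbd]) <;> linear_combination (0) * hε + (0) * hp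
    · (try simp only [map_neg, map_one, map_zero, C.bar_bar, hbα, hbβ, hbc, hbd]) <;> linear_combination (0) * hε + ((-1)) * hp
    · (try simp only [map_neg, map_one, map_zero, C.bar_bar, hbα, hbβ, hbc, hbd]) <;> linear_combination (0) * hε + (1 + 2 * ε) * hp
  have sa6 : (B.ev (ε) (1) hE).1.1 *ᵥ B.cv (2) (2) (0) =
      B.cv (2 + 2 * ε) (2) (0) := by
    refine (B.ev_cv _ _ _ _ _ _).trans (cv_congr B ?_ ?_ ?_)
    · (try simp only [map_neg, map_one, map_zero, C.bar_bar, hbα, hbβ, hbc, hbd]) <;> linear_combination (0) * hε + ((-2) * ε) * hp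
    · (try simp only [map_neg, map_one, map_zero, C.bar_bar, hbα, hbβ, hbc, hbd]) <;> linear_combination (0) * hε + (0) * hp
    · (try simp only [map_neg, map_one, map_zero, C.bar_bar, hbα, hbβ, hbc, hbd]) <;> linear_combination (0) * hε + (0) * hp
  have hα : (1 : F) ≠ 0 := by
    refine left_ne_zero_of_mul_eq_one (b := 1) ?_
    linear_combination (0) * hε + (0) * hp
  refine ⟨1, 1 + 2 * ε, h, hα, ((B.ev (ε) (1) hE) * B.flip), ?_⟩
  set G := Subgroup.closure ({B.ev (1) (1 + 2 * ε) h, ((B.ev (ε) (1) hE) * B.flip) * B.ev (1) (1 + 2 * ε) h * (((B.ev (ε) (1) hE) * B.flip))⁻¹} : Set ↥(Cfsg.SU 3 F 3))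
  have hu : B.ev (1) (1 + 2 * ε) h ∈ G := Subgroup.subset_closure (Set.mem_insert _ _)
  have hu' : (B.ev (-(1)) (C.bar (1 + 2 * ε)) hi) ∈ G := B.ev_inv_mem hu hi
  have hw : ((B.ev (ε) (1) hE) * (B.swap.ev (-(1)) (1 + 2 * ε) hv) * (B.ev (-(ε)) (C.bar (1)) hEi)) ∈ G := B.conj_flip_mem h hv hEi (Subgroup.subset_closure (Set.mem_insert_of_mem _ rfl))
  refine B.top_of_borel hF (by norm_num) hα hu hw (B.not_fix_of_step hE hv hEi ?_) (X := ((B.ev (ε) (1) hE) * (B.swap.ev (-(1)) (1 + 2 * ε) hv) * (B.ev (-(ε)) (C.bar (1)) hEi)) * (B.ev (1) (1 + 2 * ε) h) * ((B.ev (ε) (1) hE) * (B.swap.ev (-(1)) (1 + 2 * ε) hv) * (B.ev (-(ε)) (C.bar (1)) hEi)))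
    (G.mul_mem (G.mul_mem hw hu) hw) (l := 2 * ε) (k := 2) (r := 2 + 2 * ε) ?_ ?_ ?_ ?_
  · -- the conjugate moves the line
    refine left_ne_zero_of_mul_eq_one (b := 2 + 2 * ε) ?_
    linear_combination (4) * hε + ((-1) + 2 * ε) * hp
  · refine left_ne_zero_of_mul_eq_one (b := ε) ?_
    linear_combination (2) * hε + ((-1)) * hp
  · rw [← B.cv_e]; simp only [suMat_mulVec_mul]
    rw [se0, se1, se2, se3, se4, se5, se6]
    simp only [Frame.cv]; module
  · rw [← B.cv_a]; simp only [suMat_mulVec_mul]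
    rw [sa0, sa1, sa2, sa3, sa4, sa5, sa6]
    simp only [Frame.cv]; module
  · have hm : C.bar (2 * ε) * (2) = 2 * ε := by
      simp only [map_add, map_mul, map_pow, map_one, map_zero, map_ofNat, hbε]
      linear_combination (0) * hε + ((-2) * ε) * hp
    rw [hm]; refine eq_top_iff.2 (hgen ▸ Subring.closure_le.2 (Set.singleton_subset_iff.2 ?_))
    have hmem : (2 * ε : F) ∈ Subring.closure {(2 * ε : F)} := Subring.subset_closure rfl
    have he : ε = (2 : ℤ) • (2 * ε : F) ^ 1 := by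
      simp only [zsmul_eq_mul, Int.cast_one, Int.cast_ofNat]
      linear_combination (0) * hε + ((-1) * ε) * hp
    have hs : (2 : ℤ) • (2 * ε : F) ^ 1 ∈ Subring.closure {(2 * ε : F)} := (zsmul_mem (pow_mem hmem 1) 2)
    rw [← he] at hs
    exact hs

theorem two_conj_five {C : UCtx F 5} (B : Frame C) (hF : Fintype.card F = 5 ^ 2) :
    ∃ α β h, α ≠ 0 ∧ ∃ g : ↥(Cfsg.SU 3 F 5),
      Subgroup.closure ({B.ev α β h, g * B.ev α β h * g⁻¹} : Set ↥(Cfsg.SU 3 F 5)) = ⊤ := by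
  classical
  obtain ⟨hp, ε, hε, hbε, hgen⟩ := root_five C hF
  have hbα : C.bar (2) = 2 := by
    (try simp only [map_add, map_mul, map_pow, map_one, map_zero, map_ofNat, hbε]) <;>
      linear_combination (0) * hε + (0) * hp
  have hbβ : C.bar (3 + ε) = 3 + 4 * ε := by
    (try simp only [map_add, map_mul, map_pow, map_one, map_zero, map_ofNat, hbε]) <;>
      linear_combination (0) * hε + ((-1) * ε) * hp
  have h : (3 + ε : F) + C.bar (3 + ε) + (2) * C.bar (2) = 0 := by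
    rw [hbα, hbβ]; linear_combination (0) * hε + (2 + ε) * hp
  have hi : C.bar (3 + ε) + C.bar (C.bar (3 + ε)) + (-(2)) * C.bar (-(2)) = 0 := by
    rw [C.bar_bar, map_neg]; linear_combination h
  have hv : (3 + ε : F) + C.bar (3 + ε) + (-(2)) * C.bar (-(2)) = 0 := by
    rw [map_neg]; linear_combination h
  have hvi : C.bar (3 + ε) + C.bar (C.bar (3 + ε)) + (2) * C.bar (2) = 0 := by
    rw [C.bar_bar]; linear_combination h
  have se0 : (B.swap.ev (-(2)) (3 + ε) hv).1.1 *ᵥ B.cv (1) (0) (0) =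
      B.cv (1) (3) (3 + ε) := by
    refine (B.ev_swap_cv _ _ _ _ _ _).trans (cv_congr B ?_ ?_ ?_)
    · (try simp only [map_neg, map_one, map_zero, C.bar_bar, hbα, hbβ]) <;> linear_combination (0) * hε + (0) * hp
    · (try simp only [map_neg, map_one, map_zero, C.bar_bar, hbα, hbβ]) <;> linear_combination (0) * hε + ((-1)) * hp
    · (try simp only [map_neg, map_one, map_zero, C.bar_bar, hbα, hbβ]) <;> linear_combination (0) * hε + (0) * hp
  have se1 : (B.swap.ev (-(2)) (3 + ε) hv).1.1 *ᵥ B.cv (1) (3) (3 + ε) =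
      B.cv (1) (1) (2 + 2 * ε) := by
    refine (B.ev_swap_cv _ _ _ _ _ _).trans (cv_congr B ?_ ?_ ?_)
    · (try simp only [map_neg, map_one, map_zero, C.bar_bar, hbα, hbβ]) <;> linear_combination (0) * hε + (0) * hp
    · (try simp only [map_neg, map_one, map_zero, C.bar_bar, hbα, hbβ]) <;> linear_combination (0) * hε + (0) * hp
    · (try simp only [map_neg, map_one, map_zero, C.bar_bar, hbα, hbβ]) <;> linear_combination (0) * hε + (2) * hp
  have se2 : (B.ev (2) (3 + ε) h).1.1 *ᵥ B.cv (1) (1) (2 + 2 * ε) =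
      B.cv (4 + 3 * ε) (4 * ε) (2 + 2 * ε) := by
    refine (B.ev_cv _ _ _ _ _ _).trans (cv_congr B ?_ ?_ ?_)
    · (try simp only [map_neg, map_one, map_zero, C.bar_bar, hbα, hbβ]) <;> linear_combination (2) * hε + (1 + ε) * hp
    · (try simp only [map_neg, map_one, map_zero, C.bar_bar, hbα, hbβ]) <;> linear_combination (0) * hε + (1) * hp
    · (try simp only [map_neg, map_one, map_zero, C.bar_bar, hbα, hbβ]) <;> linear_combination (0) * hε + (0) * hp
  have se3 : (B.swap.ev (-(2)) (3 + ε) hv).1.1 *ᵥ B.cv (4 + 3 * ε) (4 * ε) (2 + 2 * ε) =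
      B.cv (4 + 3 * ε) (2 + 3 * ε) (3 * ε) := by
    refine (B.ev_swap_cv _ _ _ _ _ _).trans (cv_congr B ?_ ?_ ?_)
    · (try simp only [map_neg, map_one, map_zero, C.bar_bar, hbα, hbβ]) <;> linear_combination (0) * hε + (0) * hp
    · (try simp only [map_neg, map_one, map_zero, C.bar_bar, hbα, hbβ]) <;> linear_combination (0) * hε + ((-2) + (-1) * ε) * hp
    · (try simp only [map_neg, map_one, map_zero, C.bar_bar, hbα, hbβ]) <;> linear_combination (3) * hε + (4 + 4 * ε) * hp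
  have se4 : (B.swap.ev (-(2)) (3 + ε) hv).1.1 *ᵥ B.cv (4 + 3 * ε) (2 + 3 * ε) (3 * ε) =
      B.cv (4 + 3 * ε) (4 + 2 * ε) (2 + 2 * ε) := by
    refine (B.ev_swap_cv _ _ _ _ _ _).trans (cv_congr B ?_ ?_ ?_)
    · (try simp only [map_neg, map_one, map_zero, C.bar_bar, hbα, hbβ]) <;> linear_combination (0) * hε + (0) * hp
    · (try simp only [map_neg, map_one, map_zero, C.bar_bar, hbα, hbβ]) <;> linear_combination (0) * hε + ((-2) + (-1) * ε) * hp
    · (try simp only [map_neg, map_one, map_zero, C.bar_bar, hbα, hbβ]) <;> linear_combination (3) * hε + (4 + 4 * ε) * hp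
  have se5 : (B.ev (2) (3 + ε) h).1.1 *ᵥ B.cv (4 + 3 * ε) (4 + 2 * ε) (2 + 2 * ε) =
      B.cv (1 + 2 * ε) (3 + ε) (2 + 2 * ε) := by
    refine (B.ev_cv _ _ _ _ _ _).trans (cv_congr B ?_ ?_ ?_)
    · (try simp only [map_neg, map_one, map_zero, C.bar_bar, hbα, hbβ]) <;> linear_combination (2) * hε + (1 + ε) * hp
    · (try simp only [map_neg, map_one, map_zero, C.bar_bar, hbα, hbβ]) <;> linear_combination (0) * hε + (1 + ε) * hp
    · (try simp only [map_neg, map_one, map_zero, C.bar_bar, hbα, hbβ]) <;> linear_combination (0) * hε + (0) * hp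
  have se6 : (B.swap.ev (2) (C.bar (3 + ε)) hvi).1.1 *ᵥ B.cv (1 + 2 * ε) (3 + ε) (2 + 2 * ε) =
      B.cv (1 + 2 * ε) (0) (0) := by
    refine (B.ev_swap_cv _ _ _ _ _ _).trans (cv_congr B ?_ ?_ ?_)
    · (try simp only [map_neg, map_one, map_zero, C.bar_bar, hbα, hbβ]) <;> linear_combination (0) * hε + (0) * hp
    · (try simp only [map_neg, map_one, map_zero, C.bar_bar, hbα, hbβ]) <;> linear_combination (0) * hε + (1 + ε) * hp
    · (try simp only [map_neg, map_one, map_zero, C.bar_bar, hbα, hbβ]) <;> linear_combination (8) * hε + (3 + 2 * ε) * hp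
  have sa0 : (B.swap.ev (-(2)) (3 + ε) hv).1.1 *ᵥ B.cv (0) (1) (0) =
      B.cv (0) (1) (2) := by
    refine (B.ev_swap_cv _ _ _ _ _ _).trans (cv_congr B ?_ ?_ ?_)
    · (try simp only [map_neg, map_one, map_zero, C.bar_bar, hbα, hbβ]) <;> linear_combination (0) * hε + (0) * hp
    · (try simp only [map_neg, map_one, map_zero, C.bar_bar, hbα, hbβ]) <;> linear_combination (0) * hε + (0) * hp
    · (try simp only [map_neg, map_one, map_zero, C.bar_bar, hbα, hbβ]) <;> linear_combination (0) * hε + (0) * hp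
  have sa1 : (B.swap.ev (-(2)) (3 + ε) hv).1.1 *ᵥ B.cv (0) (1) (2) =
      B.cv (0) (1) (4) := by
    refine (B.ev_swap_cv _ _ _ _ _ _).trans (cv_congr B ?_ ?_ ?_)
    · (try simp only [map_neg, map_one, map_zero, C.bar_bar, hbα, hbβ]) <;> linear_combination (0) * hε + (0) * hp
    · (try simp only [map_neg, map_one, map_zero, C.bar_bar, hbα, hbβ]) <;> linear_combination (0) * hε + (0) * hp
    · (try simp only [map_neg, map_one, map_zero, C.bar_bar, hbα, hbβ]) <;> linear_combination (0) * hε + (0) * hp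
  have sa2 : (B.ev (2) (3 + ε) h).1.1 *ᵥ B.cv (0) (1) (4) =
      B.cv (4 * ε) (4) (4) := by
    refine (B.ev_cv _ _ _ _ _ _).trans (cv_congr B ?_ ?_ ?_)
    · (try simp only [map_neg, map_one, map_zero, C.bar_bar, hbα, hbβ]) <;> linear_combination (0) * hε + (2) * hp
    · (try simp only [map_neg, map_one, map_zero, C.bar_bar, hbα, hbβ]) <;> linear_combination (0) * hε + (1) * hp
    · (try simp only [map_neg, map_one, map_zero, C.bar_bar, hbα, hbβ]) <;> linear_combination (0) * hε + (0) * hp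
  have sa3 : (B.swap.ev (-(2)) (3 + ε) hv).1.1 *ᵥ B.cv (4 * ε) (4) (4) =
      B.cv (4 * ε) (4 + 2 * ε) (2 * ε) := by
    refine (B.ev_swap_cv _ _ _ _ _ _).trans (cv_congr B ?_ ?_ ?_)
    · (try simp only [map_neg, map_one, map_zero, C.bar_bar, hbα, hbβ]) <;> linear_combination (0) * hε + (0) * hp
    · (try simp only [map_neg, map_one, map_zero, C.bar_bar, hbα, hbβ]) <;> linear_combination (0) * hε + ((-2) * ε) * hp
    · (try simp only [map_neg, map_one, map_zero, C.bar_bar, hbα, hbβ]) <;> linear_combination (4) * hε + (4 + 2 * ε) * hp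
  have sa4 : (B.swap.ev (-(2)) (3 + ε) hv).1.1 *ᵥ B.cv (4 * ε) (4 + 2 * ε) (2 * ε) =
      B.cv (4 * ε) (4 + 4 * ε) (1 + 3 * ε) := by
    refine (B.ev_swap_cv _ _ _ _ _ _).trans (cv_congr B ?_ ?_ ?_)
    · (try simp only [map_neg, map_one, map_zero, C.bar_bar, hbα, hbβ]) <;> linear_combination (0) * hε + (0) * hp
    · (try simp only [map_neg, map_one, map_zero, C.bar_bar, hbα, hbβ]) <;> linear_combination (0) * hε + ((-2) * ε) * hp
    · (try simp only [map_neg, map_one, map_zero, C.bar_bar, hbα, hbβ]) <;> linear_combination (4) * hε + (3 + 3 * ε) * hp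
  have sa5 : (B.ev (2) (3 + ε) h).1.1 *ᵥ B.cv (4 * ε) (4 + 4 * ε) (1 + 3 * ε) =
      B.cv (1 + ε) (1) (1 + 3 * ε) := by
    refine (B.ev_cv _ _ _ _ _ _).trans (cv_congr B ?_ ?_ ?_)
    · (try simp only [map_neg, map_one, map_zero, C.bar_bar, hbα, hbβ]) <;> linear_combination (3) * hε + (ε) * hp
    · (try simp only [map_neg, map_one, map_zero, C.bar_bar, hbα, hbβ]) <;> linear_combination (0) * hε + (1 + 2 * ε) * hp
    · (try simp only [map_neg, map_one, map_zero, C.bar_bar, hbα, hbβ]) <;> linear_combination (0) * hε + (0) * hp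
  have sa6 : (B.swap.ev (2) (C.bar (3 + ε)) hvi).1.1 *ᵥ B.cv (1 + ε) (1) (1 + 3 * ε) =
      B.cv (1 + ε) (3 + 2 * ε) (0) := by
    refine (B.ev_swap_cv _ _ _ _ _ _).trans (cv_congr B ?_ ?_ ?_)
    · (try simp only [map_neg, map_one, map_zero, C.bar_bar, hbα, hbβ]) <;> linear_combination (0) * hε + (0) * hp
    · (try simp only [map_neg, map_one, map_zero, C.bar_bar, hbα, hbβ]) <;> linear_combination (0) * hε + (0) * hp
    · (try simp only [map_neg, map_one, map_zero, C.bar_bar, hbα, hbβ]) <;> linear_combination (4) * hε + (2 + 2 * ε) * hp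
  have hα : (2 : F) ≠ 0 := by
    refine left_ne_zero_of_mul_eq_one (b := 3) ?_
    linear_combination (0) * hε + (1) * hp
  refine ⟨2, 3 + ε, h, hα, B.flip, ?_⟩
  set G := Subgroup.closure ({B.ev (2) (3 + ε) h, B.flip * B.ev (2) (3 + ε) h * (B.flip)⁻¹} : Set ↥(Cfsg.SU 3 F 5))
  have hu : B.ev (2) (3 + ε) h ∈ G := Subgroup.subset_closure (Set.mem_insert _ _)
  have hu' : (B.ev (-(2)) (C.bar (3 + ε)) hi) ∈ G := B.ev_inv_mem hu hi
  have hw : (B.swap.ev (-(2)) (3 + ε) hv) ∈ G := B.flip_mem h hv (Subgroup.subset_closure (Set.mem_insert_of_mem _ rfl))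
  have hw' : (B.swap.ev (2) (C.bar (3 + ε)) hvi) ∈ G := B.swap.ev_inv_mem' hw hvi
  refine B.top_of_borel hF (by norm_num) hα hu hw (B.swap_not_fix hv ?_) (X := (B.swap.ev (2) (C.bar (3 + ε)) hvi) * (B.ev (2) (3 + ε) h) * (B.swap.ev (-(2)) (3 + ε) hv) * (B.swap.ev (-(2)) (3 + ε) hv) * (B.ev (2) (3 + ε) h) * (B.swap.ev (-(2)) (3 + ε) hv) * (B.swap.ev (-(2)) (3 + ε) hv))
    (G.mul_mem (G.mul_mem (G.mul_mem (G.mul_mem (G.mul_mem (G.mul_mem hw' hu) hw) hw) hu) hw) hw) (l := 1 + 2 * ε) (k := 3 + 2 * ε) (r := 1 + ε) ?_ ?_ ?_ ?_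
  · refine left_ne_zero_of_mul_eq_one (b := 4 + 2 * ε) ?_
    linear_combination (2) * hε + (3 + 2 * ε) * hp
  · refine left_ne_zero_of_mul_eq_one (b := 2 + ε) ?_
    linear_combination (2) * hε + (1 + ε) * hp
  · rw [← B.cv_e]; simp only [suMat_mulVec_mul]
    rw [se0, se1, se2, se3, se4, se5, se6]
    simp only [Frame.cv]; module
  · rw [← B.cv_a]; simp only [suMat_mulVec_mul]
    rw [sa0, sa1, sa2, sa3, sa4, sa5, sa6]
    simp only [Frame.cv]; module
  · have hm : C.bar (1 + 2 * ε) * (3 + 2 * ε) = ε := by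
      simp only [map_add, map_mul, map_pow, map_one, map_zero, map_ofNat, hbε]
      linear_combination ((-4)) * hε + ((-1) + (-1) * ε) * hp
    rw [hm]; refine eq_top_iff.2 (hgen ▸ Subring.closure_le.2 (Set.singleton_subset_iff.2 ?_))
    have hmem : (ε : F) ∈ Subring.closure {(ε : F)} := Subring.subset_closure rfl
    have he : ε = (1 : ℤ) • (ε : F) ^ 1 := by
      simp only [zsmul_eq_mul, Int.cast_one, Int.cast_ofNat]
      linear_combination (0) * hε + (0) * hp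
    have hs : (1 : ℤ) • (ε : F) ^ 1 ∈ Subring.closure {(ε : F)} := (zsmul_mem (pow_mem hmem 1) 1)
    rw [← he] at hs
    exact hs

theorem two_conj_eleven {C : UCtx F 11} (B : Frame C) (hF : Fintype.card F = 11 ^ 2) :
    ∃ α β h, α ≠ 0 ∧ ∃ g : ↥(Cfsg.SU 3 F 11),
      Subgroup.closure ({B.ev α β h, g * B.ev α β h * g⁻¹} : Set ↥(Cfsg.SU 3 F 11)) = ⊤ := by
  classical
  obtain ⟨hp, ε, hε, hbε, hgen⟩ := root_eleven C hF
  have hbα : C.bar (4) = 4 := by
    (try simp only [map_add, map_mul, map_pow, map_one, map_zero, map_ofNat, hbε]) <;>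
      linear_combination (0) * hε + (0) * hp
  have hbβ : C.bar (3 + 2 * ε) = 3 + 9 * ε := by
    (try simp only [map_add, map_mul, map_pow, map_one, map_zero, map_ofNat, hbε]) <;>
      linear_combination (0) * hε + ((-1) * ε) * hp
  have h : (3 + 2 * ε : F) + C.bar (3 + 2 * ε) + (4) * C.bar (4) = 0 := by
    rw [hbα, hbβ]; linear_combination (0) * hε + (2 + ε) * hp
  have hi : C.bar (3 + 2 * ε) + C.bar (C.bar (3 + 2 * ε)) + (-(4)) * C.bar (-(4)) = 0 := by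
    rw [C.bar_bar, map_neg]; linear_combination h
  have hv : (3 + 2 * ε : F) + C.bar (3 + 2 * ε) + (-(4)) * C.bar (-(4)) = 0 := by
    rw [map_neg]; linear_combination h
  have hvi : C.bar (3 + 2 * ε) + C.bar (C.bar (3 + 2 * ε)) + (4) * C.bar (4) = 0 := by
    rw [C.bar_bar]; linear_combination h
  have se0 : (B.swap.ev (-(4)) (3 + 2 * ε) hv).1.1 *ᵥ B.cv (1) (0) (0) =
      B.cv (1) (7) (3 + 2 * ε) := by
    refine (B.ev_swap_cv _ _ _ _ _ _).trans (cv_congr B ?_ ?_ ?_)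
    · (try simp only [map_neg, map_one, map_zero, C.bar_bar, hbα, hbβ]) <;> linear_combination (0) * hε + (0) * hp
    · (try simp only [map_neg, map_one, map_zero, C.bar_bar, hbα, hbβ]) <;> linear_combination (0) * hε + ((-1)) * hp
    · (try simp only [map_neg, map_one, map_zero, C.bar_bar, hbα, hbβ]) <;> linear_combination (0) * hε + (0) * hp
  have se1 : (B.ev (4) (3 + 2 * ε) h).1.1 *ᵥ B.cv (1) (7) (3 + 2 * ε) =
      B.cv (ε) (8 + 8 * ε) (3 + 2 * ε) := by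
    refine (B.ev_cv _ _ _ _ _ _).trans (cv_congr B ?_ ?_ ?_)
    · (try simp only [map_neg, map_one, map_zero, C.bar_bar, hbα, hbβ]) <;> linear_combination (4) * hε + ((-2) + ε) * hp
    · (try simp only [map_neg, map_one, map_zero, C.bar_bar, hbα, hbβ]) <;> linear_combination (0) * hε + (1) * hp
    · (try simp only [map_neg, map_one, map_zero, C.bar_bar, hbα, hbβ]) <;> linear_combination (0) * hε + (0) * hp
  have se2 : (B.ev (4) (3 + 2 * ε) h).1.1 *ᵥ B.cv (ε) (8 + 8 * ε) (3 + 2 * ε) =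
      B.cv (6 + 3 * ε) (9 + 5 * ε) (3 + 2 * ε) := by
    refine (B.ev_cv _ _ _ _ _ _).trans (cv_congr B ?_ ?_ ?_)
    · (try simp only [map_neg, map_one, map_zero, C.bar_bar, hbα, hbβ]) <;> linear_combination (4) * hε + ((-3) + (-2) * ε) * hp
    · (try simp only [map_neg, map_one, map_zero, C.bar_bar, hbα, hbβ]) <;> linear_combination (0) * hε + (1 + ε) * hp
    · (try simp only [map_neg, map_one, map_zero, C.bar_bar, hbα, hbβ]) <;> linear_combination (0) * hε + (0) * hp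
  have se3 : (B.ev (4) (3 + 2 * ε) h).1.1 *ᵥ B.cv (6 + 3 * ε) (9 + 5 * ε) (3 + 2 * ε) =
      B.cv (8 + 6 * ε) (10 + 2 * ε) (3 + 2 * ε) := by
    refine (B.ev_cv _ _ _ _ _ _).trans (cv_congr B ?_ ?_ ?_)
    · (try simp only [map_neg, map_one, map_zero, C.bar_bar, hbα, hbβ]) <;> linear_combination (4) * hε + ((-3) + (-1) * ε) * hp
    · (try simp only [map_neg, map_one, map_zero, C.bar_bar, hbα, hbβ]) <;> linear_combination (0) * hε + (1 + ε) * hp
    · (try simp only [map_neg, map_one, map_zero, C.bar_bar, hbα, hbβ]) <;> linear_combination (0) * hε + (0) * hp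
  have se4 : (B.swap.ev (-(4)) (3 + 2 * ε) hv).1.1 *ᵥ B.cv (8 + 6 * ε) (10 + 2 * ε) (3 + 2 * ε) =
      B.cv (8 + 6 * ε) (0) (0) := by
    refine (B.ev_swap_cv _ _ _ _ _ _).trans (cv_congr B ?_ ?_ ?_)
    · (try simp only [map_neg, map_one, map_zero, C.bar_bar, hbα, hbβ]) <;> linear_combination (0) * hε + (0) * hp
    · (try simp only [map_neg, map_one, map_zero, C.bar_bar, hbα, hbβ]) <;> linear_combination (0) * hε + ((-2) + (-2) * ε) * hp
    · (try simp only [map_neg, map_one, map_zero, C.bar_bar, hbα, hbβ]) <;> linear_combination (12) * hε + (5 + 4 * ε) * hp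
  have sa0 : (B.swap.ev (-(4)) (3 + 2 * ε) hv).1.1 *ᵥ B.cv (0) (1) (0) =
      B.cv (0) (1) (4) := by
    refine (B.ev_swap_cv _ _ _ _ _ _).trans (cv_congr B ?_ ?_ ?_)
    · (try simp only [map_neg, map_one, map_zero, C.bar_bar, hbα, hbβ]) <;> linear_combination (0) * hε + (0) * hp
    · (try simp only [map_neg, map_one, map_zero, C.bar_bar, hbα, hbβ]) <;> linear_combination (0) * hε + (0) * hp
    · (try simp only [map_neg, map_one, map_zero, C.bar_bar, hbα, hbβ]) <;> linear_combination (0) * hε + (0) * hp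
  have sa1 : (B.ev (4) (3 + 2 * ε) h).1.1 *ᵥ B.cv (0) (1) (4) =
      B.cv (8 + 8 * ε) (6) (4) := by
    refine (B.ev_cv _ _ _ _ _ _).trans (cv_congr B ?_ ?_ ?_)
    · (try simp only [map_neg, map_one, map_zero, C.bar_bar, hbα, hbβ]) <;> linear_combination (0) * hε + (0) * hp
    · (try simp only [map_neg, map_one, map_zero, C.bar_bar, hbα, hbβ]) <;> linear_combination (0) * hε + (1) * hp
    · (try simp only [map_neg, map_one, map_zero, C.bar_bar, hbα, hbβ]) <;> linear_combination (0) * hε + (0) * hp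
  have sa2 : (B.ev (4) (3 + 2 * ε) h).1.1 *ᵥ B.cv (8 + 8 * ε) (6) (4) =
      B.cv (7 + 5 * ε) (0) (4) := by
    refine (B.ev_cv _ _ _ _ _ _).trans (cv_congr B ?_ ?_ ?_)
    · (try simp only [map_neg, map_one, map_zero, C.bar_bar, hbα, hbβ]) <;> linear_combination (0) * hε + ((-1) + ε) * hp
    · (try simp only [map_neg, map_one, map_zero, C.bar_bar, hbα, hbβ]) <;> linear_combination (0) * hε + (2) * hp
    · (try simp only [map_neg, map_one, map_zero, C.bar_bar, hbα, hbβ]) <;> linear_combination (0) * hε + (0) * hp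
  have sa3 : (B.ev (4) (3 + 2 * ε) h).1.1 *ᵥ B.cv (7 + 5 * ε) (0) (4) =
      B.cv (8 + 2 * ε) (5) (4) := by
    refine (B.ev_cv _ _ _ _ _ _).trans (cv_congr B ?_ ?_ ?_)
    · (try simp only [map_neg, map_one, map_zero, C.bar_bar, hbα, hbβ]) <;> linear_combination (0) * hε + (1 + ε) * hp
    · (try simp only [map_neg, map_one, map_zero, C.bar_bar, hbα, hbβ]) <;> linear_combination (0) * hε + (1) * hp
    · (try simp only [map_neg, map_one, map_zero, C.bar_bar, hbα, hbβ]) <;> linear_combination (0) * hε + (0) * hp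
  have sa4 : (B.swap.ev (-(4)) (3 + 2 * ε) hv).1.1 *ᵥ B.cv (8 + 2 * ε) (5) (4) =
      B.cv (8 + 2 * ε) (6 + 3 * ε) (0) := by
    refine (B.ev_swap_cv _ _ _ _ _ _).trans (cv_congr B ?_ ?_ ?_)
    · (try simp only [map_neg, map_one, map_zero, C.bar_bar, hbα, hbβ]) <;> linear_combination (0) * hε + (0) * hp
    · (try simp only [map_neg, map_one, map_zero, C.bar_bar, hbα, hbβ]) <;> linear_combination (0) * hε + ((-3) + (-1) * ε) * hp
    · (try simp only [map_neg, map_one, map_zero, C.bar_bar, hbα, hbβ]) <;> linear_combination (4) * hε + (4 + 2 * ε) * hp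
  have hα : (4 : F) ≠ 0 := by
    refine left_ne_zero_of_mul_eq_one (b := 3) ?_
    linear_combination (0) * hε + (1) * hp
  refine ⟨4, 3 + 2 * ε, h, hα, B.flip, ?_⟩
  set G := Subgroup.closure ({B.ev (4) (3 + 2 * ε) h, B.flip * B.ev (4) (3 + 2 * ε) h * (B.flip)⁻¹} : Set ↥(Cfsg.SU 3 F 11))
  have hu : B.ev (4) (3 + 2 * ε) h ∈ G := Subgroup.subset_closure (Set.mem_insert _ _)
  have hu' : (B.ev (-(4)) (C.bar (3 + 2 * ε)) hi) ∈ G := B.ev_inv_mem hu hi
  have hw : (B.swap.ev (-(4)) (3 + 2 * ε) hv) ∈ G := B.flip_mem h hv (Subgroup.subset_closure (Set.mem_insert_of_mem _ rfl))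
  refine B.top_of_borel hF (by norm_num) hα hu hw (B.swap_not_fix hv ?_) (X := (B.swap.ev (-(4)) (3 + 2 * ε) hv) * (B.ev (4) (3 + 2 * ε) h) * (B.ev (4) (3 + 2 * ε) h) * (B.ev (4) (3 + 2 * ε) h) * (B.swap.ev (-(4)) (3 + 2 * ε) hv))
    (G.mul_mem (G.mul_mem (G.mul_mem (G.mul_mem hw hu) hu) hu) hw) (l := 8 + 6 * ε) (k := 6 + 3 * ε) (r := 8 + 2 * ε) ?_ ?_ ?_ ?_
  · refine left_ne_zero_of_mul_eq_one (b := 7 + 10 * ε) ?_
    linear_combination (20) * hε + (4 * ε) * hp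
  · refine left_ne_zero_of_mul_eq_one (b := 8 + 5 * ε) ?_
    linear_combination (30) * hε + (3 + 8 * ε) * hp
  · rw [← B.cv_e]; simp only [suMat_mulVec_mul]
    rw [se0, se1, se2, se3, se4]
    simp only [Frame.cv]; module
  · rw [← B.cv_a]; simp only [suMat_mulVec_mul]
    rw [sa0, sa1, sa2, sa3, sa4]
    simp only [Frame.cv]; module
  · have hm : C.bar (8 + 6 * ε) * (6 + 3 * ε) = 10 * ε := by
      simp only [map_add, map_mul, map_pow, map_one, map_zero, map_ofNat, hbε]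
      linear_combination ((-18)) * hε + (6 + (-2) * ε) * hp
    rw [hm]; refine eq_top_iff.2 (hgen ▸ Subring.closure_le.2 (Set.singleton_subset_iff.2 ?_))
    have hmem : (10 * ε : F) ∈ Subring.closure {(10 * ε : F)} := Subring.subset_closure rfl
    have he : ε = (10 : ℤ) • (10 * ε : F) ^ 1 := by
      simp only [zsmul_eq_mul, Int.cast_one, Int.cast_ofNat]
      linear_combination (0) * hε + ((-9) * ε) * hp
    have hs : (10 : ℤ) • (10 * ε : F) ^ 1 ∈ Subring.closure {(10 * ε : F)} := (zsmul_mem (pow_mem hmem 1) 10)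
    rw [← he] at hs
    exact hs

theorem two_conj_eight {C : UCtx F 8} (B : Frame C) (hF : Fintype.card F = 8 ^ 2) :
    ∃ α β h, α ≠ 0 ∧ ∃ g : ↥(Cfsg.SU 3 F 8),
      Subgroup.closure ({B.ev α β h, g * B.ev α β h * g⁻¹} : Set ↥(Cfsg.SU 3 F 8)) = ⊤ := by
  classical
  obtain ⟨hp, ε, hε, hbε, hgen⟩ := root_eight C hF
  have hbα : C.bar (1 + ε) = 1 + ε ^ 2 + ε ^ 5 := by
    (try simp only [map_add, map_mul, map_pow, map_one, map_zero, map_ofNat, hbε]) <;>
      linear_combination (ε ^ 2) * hε + ((-1) * ε ^ 2 + (-1) * ε ^ 5) * hp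
  have hbβ : C.bar (1 + ε ^ 2 + ε ^ 4) = 1 + ε + ε ^ 4 + ε ^ 5 := by
    (try simp only [map_add, map_mul, map_pow, map_one, map_zero, map_ofNat, hbε]) <;>
      linear_combination (ε + (-1) * ε ^ 5 + (-1) * ε ^ 7 + ε ^ 8 + ε ^ 10 + (-1) * ε ^ 14 + ε ^ 17 + (-1) * ε ^ 23 + ε ^ 26) * hε + ((-1) * ε + (-1) * ε ^ 4) * hp
  have h : (1 + ε ^ 2 + ε ^ 4 : F) + C.bar (1 + ε ^ 2 + ε ^ 4) + (1 + ε) * C.bar (1 + ε) = 0 := by
    rw [hbα, hbβ]; linear_combination (1) * hε + (1 + ε + ε ^ 2 + ε ^ 4 + ε ^ 5) * hp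
  have hi : C.bar (1 + ε ^ 2 + ε ^ 4) + C.bar (C.bar (1 + ε ^ 2 + ε ^ 4)) + (-(1 + ε)) * C.bar (-(1 + ε)) = 0 := by
    rw [C.bar_bar, map_neg]; linear_combination h
  have hv : (1 + ε ^ 2 + ε ^ 4 : F) + C.bar (1 + ε ^ 2 + ε ^ 4) + (-(1 + ε)) * C.bar (-(1 + ε)) = 0 := by
    rw [map_neg]; linear_combination h
  have hvi : C.bar (1 + ε ^ 2 + ε ^ 4) + C.bar (C.bar (1 + ε ^ 2 + ε ^ 4)) + (1 + ε) * C.bar (1 + ε) = 0 := by
    rw [C.bar_bar]; linear_combination h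
  have se0 : (B.swap.ev (-(1 + ε)) (1 + ε ^ 2 + ε ^ 4) hv).1.1 *ᵥ B.cv (1) (0) (0) =
      B.cv (1) (1 + ε) (1 + ε ^ 2 + ε ^ 4) := by
    refine (B.ev_swap_cv _ _ _ _ _ _).trans (cv_congr B ?_ ?_ ?_)
    · (try simp only [map_neg, map_one, map_zero, C.bar_bar, hbα, hbβ]) <;> linear_combination (0) * hε + (0) * hp
    · (try simp only [map_neg, map_one, map_zero, C.bar_bar, hbα, hbβ]) <;> linear_combination (0) * hε + ((-1) + (-1) * ε) * hp
    · (try simp only [map_neg, map_one, map_zero, C.bar_bar, hbα, hbβ]) <;> linear_combination (0) * hε + (0) * hp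
  have se1 : (B.ev (1 + ε) (1 + ε ^ 2 + ε ^ 4) h).1.1 *ᵥ B.cv (1) (1 + ε) (1 + ε ^ 2 + ε ^ 4) =
      B.cv (ε + ε ^ 4) (ε ^ 2 + ε ^ 3 + ε ^ 4 + ε ^ 5) (1 + ε ^ 2 + ε ^ 4) := by
    refine (B.ev_cv _ _ _ _ _ _).trans (cv_congr B ?_ ?_ ?_)
    · (try simp only [map_neg, map_one, map_zero, C.bar_bar, hbα, hbβ]) <;> linear_combination (1 + ε ^ 2) * hε + ((-1) * ε + (-1) * ε ^ 3 + ε ^ 4 + (-1) * ε ^ 5) * hp
    · (try simp only [map_neg, map_one, map_zero, C.bar_bar, hbα, hbβ]) <;> linear_combination (0) * hε + (1 + ε) * hp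
    · (try simp only [map_neg, map_one, map_zero, C.bar_bar, hbα, hbβ]) <;> linear_combination (0) * hε + (0) * hp
  have se2 : (B.swap.ev (-(1 + ε)) (1 + ε ^ 2 + ε ^ 4) hv).1.1 *ᵥ B.cv (ε + ε ^ 4) (ε ^ 2 + ε ^ 3 + ε ^ 4 + ε ^ 5) (1 + ε ^ 2 + ε ^ 4) =
      B.cv (ε + ε ^ 4) (ε + ε ^ 3) (ε ^ 5) := by
    refine (B.ev_swap_cv _ _ _ _ _ _).trans (cv_congr B ?_ ?_ ?_)
    · (try simp only [map_neg, map_one, map_zero, C.bar_bar, hbα, hbβ]) <;> linear_combination (0) * hε + (0) * hp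
    · (try simp only [map_neg, map_one, map_zero, C.bar_bar, hbα, hbβ]) <;> linear_combination (0) * hε + ((-1) * ε) * hp
    · (try simp only [map_neg, map_one, map_zero, C.bar_bar, hbα, hbβ]) <;> linear_combination (1 + ε + 2 * ε ^ 2 + ε ^ 3 + ε ^ 4) * hε + (ε ^ 4) * hp
  have se3 : (B.ev (-(1 + ε)) (C.bar (1 + ε ^ 2 + ε ^ 4)) hi).1.1 *ᵥ B.cv (ε + ε ^ 4) (ε + ε ^ 3) (ε ^ 5) =
      B.cv (1 + ε + ε ^ 2 + ε ^ 4 + ε ^ 5) (1 + ε + ε ^ 5) (ε ^ 5) := by
    refine (B.ev_cv _ _ _ _ _ _).trans (cv_congr B ?_ ?_ ?_)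
    · (try simp only [map_neg, map_one, map_zero, C.bar_bar, hbα, hbβ]) <;> linear_combination (1 + (-1) * ε + ε ^ 2 + ε ^ 3 + ε ^ 4) * hε + ((-1) + ε + (-1) * ε ^ 2) * hp
    · (try simp only [map_neg, map_one, map_zero, C.bar_bar, hbα, hbβ]) <;> linear_combination ((-1)) * hε + (ε ^ 3 + (-1) * ε ^ 5) * hp
    · (try simp only [map_neg, map_one, map_zero, C.bar_bar, hbα, hbβ]) <;> linear_combination (0) * hε + (0) * hp
  have se4 : (B.swap.ev (1 + ε) (C.bar (1 + ε ^ 2 + ε ^ 4)) hvi).1.1 *ᵥ B.cv (1 + ε + ε ^ 2 + ε ^ 4 + ε ^ 5) (1 + ε + ε ^ 5) (ε ^ 5) =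
      B.cv (1 + ε + ε ^ 2 + ε ^ 4 + ε ^ 5) (1 + ε + ε ^ 4 + ε ^ 5) (ε) := by
    refine (B.ev_swap_cv _ _ _ _ _ _).trans (cv_congr B ?_ ?_ ?_)
    · (try simp only [map_neg, map_one, map_zero, C.bar_bar, hbα, hbβ]) <;> linear_combination (0) * hε + (0) * hp
    · (try simp only [map_neg, map_one, map_zero, C.bar_bar, hbα, hbβ]) <;> linear_combination (1) * hε + (ε + ε ^ 2 + ε ^ 5) * hp
    · (try simp only [map_neg, map_one, map_zero, C.bar_bar, hbα, hbβ]) <;> linear_combination (ε ^ 2 + 2 * ε ^ 3) * hε + ((-1) * ε ^ 3 + ε ^ 4 + ε ^ 5) * hp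
  have se5 : (B.ev (1 + ε) (1 + ε ^ 2 + ε ^ 4) h).1.1 *ᵥ B.cv (1 + ε + ε ^ 2 + ε ^ 4 + ε ^ 5) (1 + ε + ε ^ 4 + ε ^ 5) (ε) =
      B.cv (1 + ε + ε ^ 4) (1 + ε ^ 2 + ε ^ 4 + ε ^ 5) (ε) := by
    refine (B.ev_cv _ _ _ _ _ _).trans (cv_congr B ?_ ?_ ?_)
    · (try simp only [map_neg, map_one, map_zero, C.bar_bar, hbα, hbβ]) <;> linear_combination ((-1) + (-1) * ε ^ 3 + (-1) * ε ^ 4) * hε + (ε ^ 3) * hp
    · (try simp only [map_neg, map_one, map_zero, C.bar_bar, hbα, hbβ]) <;> linear_combination (0) * hε + (ε) * hp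
    · (try simp only [map_neg, map_one, map_zero, C.bar_bar, hbα, hbβ]) <;> linear_combination (0) * hε + (0) * hp
  have se6 : (B.swap.ev (1 + ε) (C.bar (1 + ε ^ 2 + ε ^ 4)) hvi).1.1 *ᵥ B.cv (1 + ε + ε ^ 4) (1 + ε ^ 2 + ε ^ 4 + ε ^ 5) (ε) =
      B.cv (1 + ε + ε ^ 4) (0) (0) := by
    refine (B.ev_swap_cv _ _ _ _ _ _).trans (cv_congr B ?_ ?_ ?_)
    · (try simp only [map_neg, map_one, map_zero, C.bar_bar, hbα, hbβ]) <;> linear_combination (0) * hε + (0) * hp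
    · (try simp only [map_neg, map_one, map_zero, C.bar_bar, hbα, hbβ]) <;> linear_combination (0) * hε + (1 + ε + ε ^ 2 + ε ^ 4 + ε ^ 5) * hp
    · (try simp only [map_neg, map_one, map_zero, C.bar_bar, hbα, hbβ]) <;> linear_combination ((-1) * ε + ε ^ 2 + (-1) * ε ^ 4) * hε + (2 * ε + (-1) * ε ^ 2 + ε ^ 4) * hp
  have sa0 : (B.swap.ev (-(1 + ε)) (1 + ε ^ 2 + ε ^ 4) hv).1.1 *ᵥ B.cv (0) (1) (0) =
      B.cv (0) (1) (1 + ε ^ 2 + ε ^ 5) := by
    refine (B.ev_swap_cv _ _ _ _ _ _).trans (cv_congr B ?_ ?_ ?_)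
    · (try simp only [map_neg, map_one, map_zero, C.bar_bar, hbα, hbβ]) <;> linear_combination (0) * hε + (0) * hp
    · (try simp only [map_neg, map_one, map_zero, C.bar_bar, hbα, hbβ]) <;> linear_combination (0) * hε + (0) * hp
    · (try simp only [map_neg, map_one, map_zero, C.bar_bar, hbα, hbβ]) <;> linear_combination (0) * hε + (0) * hp
  have sa1 : (B.ev (1 + ε) (1 + ε ^ 2 + ε ^ 4) h).1.1 *ᵥ B.cv (0) (1) (1 + ε ^ 2 + ε ^ 5) =
      B.cv (ε + ε ^ 2 + ε ^ 3 + ε ^ 4) (1 + ε + ε ^ 2 + ε ^ 5) (1 + ε ^ 2 + ε ^ 5) := by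
    refine (B.ev_cv _ _ _ _ _ _).trans (cv_congr B ?_ ?_ ?_)
    · (try simp only [map_neg, map_one, map_zero, C.bar_bar, hbα, hbβ]) <;> linear_combination (ε + ε ^ 3) * hε + ((-1) * ε + (-1) * ε ^ 3) * hp
    · (try simp only [map_neg, map_one, map_zero, C.bar_bar, hbα, hbβ]) <;> linear_combination (1) * hε + (0) * hp
    · (try simp only [map_neg, map_one, map_zero, C.bar_bar, hbα, hbβ]) <;> linear_combination (0) * hε + (0) * hp
  have sa2 : (B.swap.ev (-(1 + ε)) (1 + ε ^ 2 + ε ^ 4) hv).1.1 *ᵥ B.cv (ε + ε ^ 2 + ε ^ 3 + ε ^ 4) (1 + ε + ε ^ 2 + ε ^ 5) (1 + ε ^ 2 + ε ^ 5) =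
      B.cv (ε + ε ^ 2 + ε ^ 3 + ε ^ 4) (1 + ε ^ 2) (1 + ε ^ 2) := by
    refine (B.ev_swap_cv _ _ _ _ _ _).trans (cv_congr B ?_ ?_ ?_)
    · (try simp only [map_neg, map_one, map_zero, C.bar_bar, hbα, hbβ]) <;> linear_combination (0) * hε + (0) * hp
    · (try simp only [map_neg, map_one, map_zero, C.bar_bar, hbα, hbβ]) <;> linear_combination (0) * hε + ((-1) * ε ^ 2 + (-1) * ε ^ 3 + (-1) * ε ^ 4) * hp
    · (try simp only [map_neg, map_one, map_zero, C.bar_bar, hbα, hbβ]) <;> linear_combination (3 + 2 * ε + ε ^ 2 + ε ^ 4) * hε + ((-1) + ε ^ 2 + 2 * ε ^ 5) * hp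
  have sa3 : (B.ev (-(1 + ε)) (C.bar (1 + ε ^ 2 + ε ^ 4)) hi).1.1 *ᵥ B.cv (ε + ε ^ 2 + ε ^ 3 + ε ^ 4) (1 + ε ^ 2) (1 + ε ^ 2) =
      B.cv (1 + ε ^ 3 + ε ^ 4) (ε + ε ^ 3) (1 + ε ^ 2) := by
    refine (B.ev_cv _ _ _ _ _ _).trans (cv_congr B ?_ ?_ ?_)
    · (try simp only [map_neg, map_one, map_zero, C.bar_bar, hbα, hbβ]) <;> linear_combination (1 + 2 * ε) * hε + (2 * ε ^ 2 + ε ^ 5) * hp
    · (try simp only [map_neg, map_one, map_zero, C.bar_bar, hbα, hbβ]) <;> linear_combination (0) * hε + ((-1) * ε + (-1) * ε ^ 3) * hp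
    · (try simp only [map_neg, map_one, map_zero, C.bar_bar, hbα, hbβ]) <;> linear_combination (0) * hε + (0) * hp
  have sa4 : (B.swap.ev (1 + ε) (C.bar (1 + ε ^ 2 + ε ^ 4)) hvi).1.1 *ᵥ B.cv (1 + ε ^ 3 + ε ^ 4) (ε + ε ^ 3) (1 + ε ^ 2) =
      B.cv (1 + ε ^ 3 + ε ^ 4) (1 + ε ^ 5) (ε) := by
    refine (B.ev_swap_cv _ _ _ _ _ _).trans (cv_congr B ?_ ?_ ?_)
    · (try simp only [map_neg, map_one, map_zero, C.bar_bar, hbα, hbβ]) <;> linear_combination (0) * hε + (0) * hp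
    · (try simp only [map_neg, map_one, map_zero, C.bar_bar, hbα, hbβ]) <;> linear_combination (0) * hε + (ε + ε ^ 3 + ε ^ 4) * hp
    · (try simp only [map_neg, map_one, map_zero, C.bar_bar, hbα, hbβ]) <;> linear_combination ((-2) + ε + ε ^ 2 + ε ^ 3) * hε + (2 + (-1) * ε + ε ^ 4) * hp
  have sa5 : (B.ev (1 + ε) (1 + ε ^ 2 + ε ^ 4) h).1.1 *ᵥ B.cv (1 + ε ^ 3 + ε ^ 4) (1 + ε ^ 5) (ε) =
      B.cv (ε + ε ^ 2 + ε ^ 5) (1 + ε + ε ^ 2 + ε ^ 5) (ε) := by
    refine (B.ev_cv _ _ _ _ _ _).trans (cv_congr B ?_ ?_ ?_)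
    · (try simp only [map_neg, map_one, map_zero, C.bar_bar, hbα, hbβ]) <;> linear_combination ((-1) * ε ^ 4) * hε + ((-1) * ε ^ 2 + ε ^ 3 + ε ^ 4 + (-1) * ε ^ 5) * hp
    · (try simp only [map_neg, map_one, map_zero, C.bar_bar, hbα, hbβ]) <;> linear_combination (0) * hε + (0) * hp
    · (try simp only [map_neg, map_one, map_zero, C.bar_bar, hbα, hbβ]) <;> linear_combination (0) * hε + (0) * hp
  have sa6 : (B.swap.ev (1 + ε) (C.bar (1 + ε ^ 2 + ε ^ 4)) hvi).1.1 *ᵥ B.cv (ε + ε ^ 2 + ε ^ 5) (1 + ε + ε ^ 2 + ε ^ 5) (ε) =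
      B.cv (ε + ε ^ 2 + ε ^ 5) (ε ^ 2) (0) := by
    refine (B.ev_swap_cv _ _ _ _ _ _).trans (cv_congr B ?_ ?_ ?_)
    · (try simp only [map_neg, map_one, map_zero, C.bar_bar, hbα, hbβ]) <;> linear_combination (0) * hε + (0) * hp
    · (try simp only [map_neg, map_one, map_zero, C.bar_bar, hbα, hbβ]) <;> linear_combination (1) * hε + (ε + ε ^ 2 + ε ^ 5) * hp
    · (try simp only [map_neg, map_one, map_zero, C.bar_bar, hbα, hbβ]) <;> linear_combination (1 + (-1) * ε + ε ^ 3) * hε + ((-1) + ε + (-1) * ε ^ 3) * hp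
  have hα : (1 + ε : F) ≠ 0 := by
    refine left_ne_zero_of_mul_eq_one (b := ε ^ 3 + ε ^ 4 + ε ^ 5) ?_
    linear_combination (1) * hε + ((-1) + ε ^ 4 + ε ^ 5) * hp
  refine ⟨1 + ε, 1 + ε ^ 2 + ε ^ 4, h, hα, B.flip, ?_⟩
  set G := Subgroup.closure ({B.ev (1 + ε) (1 + ε ^ 2 + ε ^ 4) h, B.flip * B.ev (1 + ε) (1 + ε ^ 2 + ε ^ 4) h * (B.flip)⁻¹} : Set ↥(Cfsg.SU 3 F 8))
  have hu : B.ev (1 + ε) (1 + ε ^ 2 + ε ^ 4) h ∈ G := Subgroup.subset_closure (Set.mem_insert _ _)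
  have hu' : (B.ev (-(1 + ε)) (C.bar (1 + ε ^ 2 + ε ^ 4)) hi) ∈ G := B.ev_inv_mem hu hi
  have hw : (B.swap.ev (-(1 + ε)) (1 + ε ^ 2 + ε ^ 4) hv) ∈ G := B.flip_mem h hv (Subgroup.subset_closure (Set.mem_insert_of_mem _ rfl))
  have hw' : (B.swap.ev (1 + ε) (C.bar (1 + ε ^ 2 + ε ^ 4)) hvi) ∈ G := B.swap.ev_inv_mem' hw hvi
  refine B.top_of_borel hF (by norm_num) hα hu hw (B.swap_not_fix hv ?_) (X := (B.swap.ev (1 + ε) (C.bar (1 + ε ^ 2 + ε ^ 4)) hvi) * (B.ev (1 + ε) (1 + ε ^ 2 + ε ^ 4) h) * (B.swap.ev (1 + ε) (C.bar (1 + ε ^ 2 + ε ^ 4)) hvi) * (B.ev (-(1 + ε)) (C.bar (1 + ε ^ 2 + ε ^ 4)) hi) * (B.swap.ev (-(1 + ε)) (1 + ε ^ 2 + ε ^ 4) hv) * (B.ev (1 + ε) (1 + ε ^ 2 + ε ^ 4) h) * (B.swap.ev (-(1 + ε)) (1 + ε ^ 2 + ε ^ 4) hv))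
    (G.mul_mem (G.mul_mem (G.mul_mem (G.mul_mem (G.mul_mem (G.mul_mem hw' hu) hw') hu') hw) hu) hw) (l := 1 + ε + ε ^ 4) (k := ε ^ 2) (r := ε + ε ^ 2 + ε ^ 5) ?_ ?_ ?_ ?_
  · refine left_ne_zero_of_mul_eq_one (b := 1 + ε ^ 2 + ε ^ 3 + ε ^ 5) ?_
    linear_combination (2 * ε + ε ^ 3) * hε + ((-1) * ε + ε ^ 2 + ε ^ 5) * hp
  · refine left_ne_zero_of_mul_eq_one (b := ε + ε ^ 2 + ε ^ 3 + ε ^ 5) ?_
    linear_combination (1 + ε + ε ^ 3) * hε + ((-1) + ε ^ 2 + ε ^ 5) * hp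
  · rw [← B.cv_e]; simp only [suMat_mulVec_mul]
    rw [se0, se1, se2, se3, se4, se5, se6]
    simp only [Frame.cv]; module
  · rw [← B.cv_a]; simp only [suMat_mulVec_mul]
    rw [sa0, sa1, sa2, sa3, sa4, sa5, sa6]
    simp only [Frame.cv]; module
  · have hm : C.bar (1 + ε + ε ^ 4) * (ε ^ 2) = ε ^ 2 + ε ^ 4 := by
      simp only [map_add, map_mul, map_pow, map_one, map_zero, map_ofNat, hbε]
      linear_combination (ε ^ 4 + (-1) * ε ^ 7 + ε ^ 10 + (-1) * ε ^ 16 + ε ^ 19 + (-1) * ε ^ 25 + ε ^ 28) * hε + ((-1) * ε ^ 4) * hp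
    rw [hm]; refine eq_top_iff.2 (hgen ▸ Subring.closure_le.2 (Set.singleton_subset_iff.2 ?_))
    have hmem : (ε ^ 2 + ε ^ 4 : F) ∈ Subring.closure {(ε ^ 2 + ε ^ 4 : F)} := Subring.subset_closure rfl
    have he : ε = (1 : ℤ) • (ε ^ 2 + ε ^ 4 : F) ^ 2 + (1 : ℤ) • (ε ^ 2 + ε ^ 4 : F) ^ 4 := by
      simp only [zsmul_eq_mul, Int.cast_one, Int.cast_ofNat]
      linear_combination ((-2) + 3 * ε + (-2) * ε ^ 2 + 6 * ε ^ 3 + (-4) * ε ^ 4 + 4 * ε ^ 5 + (-6) * ε ^ 6 + ε ^ 7 + (-4) * ε ^ 8 + (-1) * ε ^ 10) * hε + (1 + (-1) * ε + ε ^ 2 + (-2) * ε ^ 3 + (-1) * ε ^ 5) * hp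
    have hs : (1 : ℤ) • (ε ^ 2 + ε ^ 4 : F) ^ 2 + (1 : ℤ) • (ε ^ 2 + ε ^ 4 : F) ^ 4 ∈ Subring.closure {(ε ^ 2 + ε ^ 4 : F)} := (add_mem (zsmul_mem (pow_mem hmem 2) 1) (zsmul_mem (pow_mem hmem 4) 1))
    rw [← he] at hs
    exact hs

end CfsgLib.RegUnip.SU
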